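import Mathlib
import Cfsg.Agent.H93.CI.Deriv
import Cfsg.Agent.H93.ON.Loop2.Data

/-!
A derivation that a word fixes the first coset (generated data).
-/

set_option autoImplicit false
set_option maxRecDepth 100000
set_option linter.all false
set_option Elab.async false

namespace H93
namespace ON
namespace Loop2

open CosetI

noncomputable section

def st0 : List Step := [(30,[],[]),(31,[],[]),(32,[],[]),(33,[],[]),(34,[],[]),(35,[],[]),(0,[],[]),(0,[],[]),(0,[],[]),(0,[],[]),(36,[12,14,16,18],[12,14]),(21,[],[1,11,12]),(0,[],[]),(0,[],[]),(0,[],[]),(24,[12,24,26,28],[5,12,24,26,28]),(0,[],[]),(0,[],[]),(0,[],[]),(0,[],[]),(0,[],[]),(0,[],[]),(25,[7,12,24,32,34,36,38,40,42],[22]),(0,[],[]),(0,[],[]),(0,[],[]),(0,[],[]),(0,[],[]),(0,[],[]),(26,[5,12,46,48,50,52,54,56],[22,14]),(0,[],[]),(0,[],[]),(27,[12,46,60,62],[7,12,46,60,62]),(0,[],[]),(0,[],[]),(0,[],[]),(0,[],[]),(0,[],[]),(0,[],[]),(0,[],[]),(0,[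],[]),(0,[],[]),(0,[],[]),(0,[],[]),(29,[12,24,66,68,70,72,74,76,78,80,82,84,86],[3,5,7,22,14,59]),(0,[],[]),(0,[],[]),(0,[],[]),(0,[],[]),(7,[92,96],[14]),(0,[],[]),(8,[45,100],[90]),(0,[],[]),(9,[46,104],[90]),(0,[],[]),(11,[24,108],[14]),(0,[],[]),(12,[24,112],[90]),(0,[],[]),(14,[46,48,116],[14,59]),(0,[],[]),(15,[92,120],[24]),(0,[],[]),(16,[92,124],[46]),(0,[],[]),(0,[],[]),(0,[],[]),(17,[92,128,130,132],[45]),(0,[],[]),(18,[45,136],[14]),(0,[],[]),(19,[45,140],[46]),(0,[],[]),(0,[],[]),(20,[14,21,144,146],[90]),(21,[13,22,92,94],[]),(1,[150],[]),(1,[153,95],[]),(1,[91,154],[]),(1,[157],[]),(1,[159,96],[]),(1,[148,160],[]),(1,[159,124],[]),(1,[106,164],[]),(1,[159,120],[]),(1,[114,168],[]),(1,[159,128],[]),(1,[102,172],[]),(1,[159,93],[]),(1,[162],[]),(1,[179,147],[]),(1,[179,148],[]),(1,[167],[]),(1,[185,126],[]),(1,[171],[]),(1,[189,122],[]),(1,[175],[]),(1,[193,130],[]),(0,[],[]),(22,[45,43,196],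[24,32]),(0,[],[]),(0,[],[]),(0,[],[]),(0,[],[]),(23,[46,200,202,204,206],[90,176,24,66]),(0,[],[]),(24,[23,7,12,24,66,209,210],[46,60]),(0,[],[]),(25,[24,26,28,214],[13,9,7,22,24,32]),(0,[],[]),(26,[46,60,62,218],[13,3,5,22,46,48]),(0,[],[]),(27,[23,5,12,46,200,202,222],[24,26]),(6,[99,180],[21]),(0,[],[]),(8,[139,228],[21]),(0,[],[]),(9,[59,232],[21]),(0,[],[]),(12,[111,236],[21]),(0,[],[]),(15,[99,240],[111]),(0,[],[]),(16,[99,244],[59]),(0,[],[]),(0,[],[]),(0,[],[]),(17,[99,248,250,252],[139]),(0,[],[]),(19,[139,256],[59]),(0,[],[]),(21,[260],[21,227]),(0,[],[]),(0,[],[]),(0,[],[]),(22,[139,264,266,268],[111]),(0,[],[]),(0,[],[]),(0,[],[]),(0,[],[]),(0,[],[]),(23,[59,89,272,274,276,278,280],[21,227]),(0,[],[]),(0,[],[]),(0,[],[]),(0,[],[]),(0,[],[]),(0,[],[]),(0,[],[]),(24,[16,284,286,288,290,292,294,296],[59]),(0,[],[]),(0,[],[]),(0,[],[]),(0,[],[]),(0,[],[]),(0,[],[]),(0,[],[]),(0,[],[]),(25,[111,30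0,302,304,306,308,310,312,314],[260]),(0,[],[]),(0,[],[]),(0,[],[]),(0,[],[]),(0,[],[]),(0,[],[]),(0,[],[]),(26,[59,299,318,320,322,324,326,328,330],[260]),(0,[],[]),(0,[],[]),(0,[],[]),(0,[],[]),(0,[],[]),(0,[],[]),(27,[16,334,336,338,340,342,344],[111,300]),(0,[],[]),(0,[],[]),(0,[],[]),(0,[],[]),(0,[],[]),(0,[],[]),(28,[111,348,350,352,354,356,358],[59,89,272,274,276,278,280,282]),(0,[],[]),(0,[],[]),(0,[],[]),(0,[],[]),(0,[],[]),(0,[],[]),(0,[],[]),(0,[],[]),(0,[],[]),(0,[],[]),(0,[],[]),(0,[],[]),(0,[],[]),(0,[],[]),(29,[16,284,362,364,366,368,370,372,374,376,378,380,382,384,386,388],[15,46,200]),(0,[],[]),(0,[],[]),(0,[],[]),(0,[],[]),(0,[],[]),(6,[398,400],[394]),(0,[],[]),(7,[398,404],[396]),(0,[],[]),(9,[334,408],[394]),(0,[],[]),(0,[],[]),(0,[],[]),(14,[334,412,414,416],[396]),(0,[],[]),(16,[398,420],[334]),(0,[],[]),(0,[],[]),(19,[392,426],[334]),(0,[],[]),(0,[],[]),(0,[],[]),(20,[396,430,432,4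34],[394]),(21,[17,260],[394,403]),(1,[439],[]),(1,[441,401],[]),(1,[441,402],[]),(0,[],[]),(0,[],[]),(0,[],[]),(0,[],[]),(0,[],[]),(0,[],[]),(0,[],[]),(23,[334,448,450,452,454,456,458],[394,445]),(0,[],[]),(0,[],[]),(0,[],[]),(0,[],[]),(0,[],[]),(24,[18,239,462,464,466,468,470],[334,336]),(0,[],[]),(0,[],[]),(0,[],[]),(0,[],[]),(25,[284,286,288,474,476,478,480],[17,139,264]),(0,[],[]),(0,[],[]),(0,[],[]),(0,[],[]),(26,[334,336,338,484,486,488,490],[17,15,46]),(0,[],[]),(0,[],[]),(0,[],[])]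
theorem ok0 : data.stepsOK st0 0 = true := by decide +kernel
def st1 : List Step := [(0,[],[]),(0,[],[]),(27,[18,235,494,496,498,500,502],[284,286]),(0,[],[]),(0,[],[]),(0,[],[]),(0,[],[]),(0,[],[]),(28,[284,362,506,508,510,512,514],[334,448,450,452,454,456,458,460]),(0,[],[]),(0,[],[]),(0,[],[]),(0,[],[]),(0,[],[]),(0,[],[]),(0,[],[]),(0,[],[]),(0,[],[]),(0,[],[]),(0,[],[]),(0,[],[]),(0,[],[]),(0,[],[]),(0,[],[]),(29,[18,239,518,520,522,524,526,528,530,532,534,536,538,540,542,544,546],[396,419]),(11,[239],[144,283]),(15,[227,283],[239]),(16,[227,361],[235]),(21,[19,17,99,180],[]),(1,[556],[]),(1,[559,181],[]),(1,[21,560],[]),(1,[559,145],[]),(1,[559,361],[]),(1,[234,566],[]),(1,[559,283],[]),(1,[238,570],[]),(1,[559,226],[]),(1,[559,263],[]),(1,[563],[]),(1,[579,182],[]),(1,[14,580],[]),(1,[579,244],[]),(1,[58,584],[]),(1,[579,240],[]),(1,[110,588],[]),(1,[579,248],[]),(1,[138,592],[]),(1,[569],[]),(1,[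597,359],[]),(1,[597,554],[]),(1,[573],[]),(1,[603,551],[]),(1,[603,281],[]),(1,[519,606],[]),(1,[603,552],[]),(1,[583],[]),(1,[613,107],[]),(1,[47,614],[]),(1,[613,115],[]),(1,[25,618],[]),(1,[613,103],[]),(1,[44,622],[]),(1,[587],[]),(1,[627,246],[]),(1,[591],[]),(1,[631,242],[]),(1,[595],[]),(1,[635,250],[]),(1,[254,636],[]),(1,[608],[]),(1,[641,520],[]),(1,[641,519],[]),(1,[617],[]),(1,[647,105],[]),(1,[647,186],[]),(1,[621],[]),(1,[653,113],[]),(1,[653,190],[]),(1,[625],[]),(1,[659,101],[]),(1,[659,194],[]),(1,[134,662],[]),(1,[638],[]),(1,[667,253],[]),(1,[667,254],[]),(1,[664],[]),(1,[673,133],[]),(1,[673,134],[]),(8,[32],[655,32]),(9,[66],[655,66]),(16,[657,66],[66]),(18,[32],[108,271]),(21,[],[655,657,26]),(24,[687,25,23,7,5,7,22,24,686,225],[]),(1,[688],[]),(1,[691,224],[]),(1,[691,223],[]),(1,[686,694],[]),(1,[697],[]),(1,[699,203],[]),(1,[67,700],[]),(1,[703],[]),(1,[705,201],[]),(1,[208,706],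[]),(1,[705,391],[]),(1,[708],[]),(1,[713,208],[]),(1,[713,210],[]),(1,[492,716],[]),(1,[718],[]),(1,[721,491],[]),(1,[721,492],[]),(19,[214],[31,214]),(11,[199],[684,269]),(12,[199],[679,199]),(25,[],[35,33,25,13,7,9,22,45,43,41,39]),(1,[733],[]),(1,[735,38],[]),(1,[735,37],[]),(8,[196,731,197],[]),(11,[42,136,264],[]),(6,[677],[661,677]),(7,[677],[136,671]),(9,[140],[661,140]),(20,[136,228],[661,136,228]),(7,[651,48],[48]),(11,[714,68],[48]),(21,[725],[649,651,60]),(1,[756],[]),(1,[759,722],[]),(1,[63,760],[]),(1,[759,212],[]),(1,[759,724],[]),(1,[763],[]),(1,[769,489],[]),(1,[219,770],[]),(1,[773],[]),(1,[775,487],[]),(26,[47,23,5,3,12,14,59,299,318,320,322],[]),(1,[778],[]),(1,[781,324],[]),(1,[49,782],[]),(1,[781,323],[]),(1,[766,786],[]),(1,[785],[]),(1,[791,326],[]),(1,[117,792],[]),(1,[789],[]),(1,[797,321],[]),(1,[795],[]),(1,[801,328],[]),(15,[753,755],[755]),(16,[753,116],[116]),(26,[],[51,49,4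7,13,5,3,22,14,59,57,55]),(1,[809],[]),(1,[811,53],[]),(1,[811,54],[]),(12,[89],[232,598]),(15,[629,89],[89]),(21,[57],[232,601,494]),(1,[821],[]),(1,[823,496],[]),(1,[814,824],[]),(1,[823,495],[]),(1,[827],[]),(1,[831,498],[]),(11,[65,218],[218]),(21,[710],[681,683]),(6,[819,816],[816]),(9,[272],[816,357]),(16,[819,272],[272]),(21,[87],[816,839]),(9,[348],[236,645]),(16,[633,348],[348]),(21,[],[236,611,462]),(27,[220,116,802,330],[835,220,116,802,330]),(21,[],[233,629,299]),(14,[645,642],[605,645,642]),(16,[611,645],[645]),(21,[],[237,633,300]),(7,[444,437],[333]),(8,[317],[442,424]),(11,[461],[333,853,332]),(1,[866],[]),(1,[869,459],[]),(1,[516,870],[]),(1,[869,460],[]),(1,[872],[]),(1,[877,516],[]),(1,[877,515],[]),(1,[456,880],[]),(1,[883],[]),(1,[885,513],[]),(1,[454,886],[]),(1,[889],[]),(1,[891,511],[]),(1,[452,892],[]),(1,[895],[]),(1,[897,509],[]),(1,[450,898],[]),(1,[901],[]),(1,[903,507],[]),(1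,[448,904],[]),(1,[907],[]),(1,[909,364],[]),(1,[413,910],[]),(1,[909,363],[]),(1,[334,914],[]),(1,[912],[]),(1,[919,413],[]),(1,[919,414],[]),(1,[917],[]),(1,[925,285],[]),(1,[925,286],[]),(1,[19,928],[]),(1,[931],[]),(1,[933,505],[]),(1,[234,934],[]),(1,[933,288],[]),(1,[238,938],[]),(1,[937],[]),(1,[943,503],[]),(1,[828,944],[]),(1,[941],[]),(1,[949,290],[]),(1,[644,950],[]),(1,[949,474],[]),(1,[947],[]),(1,[957,501],[]),(1,[814,958],[]),(1,[953],[]),(1,[963,292],[]),(1,[278,964],[]),(1,[961],[]),(1,[969,833],[]),(1,[967],[]),(1,[973,294],[]),(16,[444,411],[879]),(26,[879],[577,565,235,854,318,799,61,48,116]),(8,[270,236,954],[]),(20,[685,679,684,981],[981]),(6,[843,840],[840]),(12,[274],[840,355]),(15,[843,274],[274]),(9,[276],[986,353]),(16,[989,276],[276]),(6,[993,990],[990]),(21,[974],[990,995]),(7,[859,642],[642])]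
theorem ok1 : data.stepsOK st1 250 = true := by decide +kernel
def st2 : List Step := [(27,[975,277],[296,855,234,576,879,457,455]),(21,[803,979,977,409],[]),(1,[1002],[]),(1,[1005,408],[]),(1,[1005,921],[]),(1,[1005,335],[]),(1,[331,1010],[]),(1,[1005,448],[]),(1,[1005,429],[]),(1,[1005,423],[]),(1,[1005,336],[]),(1,[1012],[]),(1,[1023,332],[]),(1,[397,1024],[]),(1,[1023,331],[]),(1,[1023,863],[]),(1,[399,1030],[]),(1,[1026],[]),(1,[1035,430],[]),(1,[443,1036],[]),(1,[1035,397],[]),(1,[1035,419],[]),(1,[878,1042],[]),(1,[1035,407],[]),(1,[445,1046],[]),(1,[1033],[]),(1,[1051,435],[]),(1,[442,1052],[]),(1,[1039],[]),(1,[1057,432],[]),(1,[405,1058],[]),(1,[1044],[]),(1,[1063,878],[]),(1,[1063,457],[]),(1,[548,1066],[]),(1,[1063,977],[]),(1,[1063,978],[]),(1,[1049],[]),(1,[1055],[]),(1,[1075,1060,1076],[]),(1,[1079,395],[]),(1,[443,1080],[]),(1,[1079,411],[]),(1,[1064,1084],[]),(1,[1068],[]),(1,[1089,548],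[]),(1,[1089,547],[]),(1,[1082],[]),(1,[1095,443],[]),(1,[1095,420],[]),(1,[1029,1098],[]),(1,[1095,424],[]),(1,[393,1102],[]),(1,[1086],[]),(1,[1107,417],[]),(1,[1107,1064],[]),(1,[1107,1091],[]),(1,[1107,1070],[]),(1,[1107,1072],[]),(1,[1101],[]),(1,[1119,1019],[]),(1,[1105],[]),(1,[1123,865],[]),(21,[1021,803,807],[]),(9,[339,1127,117],[]),(12,[340],[1129,755]),(20,[484],[1129,49,649,48,1128]),(1,[1132],[]),(1,[1135,485],[]),(1,[1135,777],[]),(21,[],[1129,753,50]),(26,[339],[1140,813,814,828,234,565,19,1041,1111]),(6,[],[1130,805,1131]),(11,[341,1137,340],[]),(15,[1145,341],[341]),(16,[1145,342],[342]),(21,[],[1130,805,70]),(24,[345],[346,861,238,576,875,1111,1112,1092]),(21,[],[987,989,1000]),(24,[],[353,997,296,855,598,357,355,1156,453]),(7,[],[1009,1121,1008]),(16,[1161,922],[922]),(12,[446],[1124,315]),(12,[1112],[1007,1014]),(15,[1115,1112],[1112]),(6,[],[1167,1169,1166]),(9,[450],[1167,455]),(16,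[1171,450],[450]),(21,[1001],[1173,1175]),(21,[1092],[1166,1171]),(15,[],[1155,1151,1154]),(26,[62],[61,48,116,1117,1110,1040,17,15,46,767]),(1,[1182],[]),(1,[1185,218],[]),(1,[799,1186],[]),(1,[1185,63],[]),(1,[1188],[]),(1,[1193,799],[]),(1,[1193,319],[]),(27,[837],[715,60,1191,766,47,24,66,710]),(6,[807,1126],[1126]),(14,[1196],[1194,1191,1195,1196]),(24,[220,755,70,72,74],[1196,855,598,845]),(11,[296,1203,297],[]),(26,[347,345,343,1147],[301,109,66,710,1199,389]),(15,[1201,473],[473]),(27,[1138,1196,855,234,239,645],[340,1208,387]),(14,[386,388,1199,389,387],[]),(26,[387,1213,644,605,462],[1209,1147,342,344,346]),(11,[464],[1216,302]),(7,[],[544,1181,545]),(16,[1221,543],[543]),(0,[],[]),(14,[235,1224],[565,235,1224]),(0,[],[]),(17,[575,231,1228],[231,1228]),(0,[],[]),(19,[231,1232],[235]),(0,[],[]),(0,[],[]),(22,[231,1236,1238],[239,954]),(0,[],[]),(24,[576,875,261,111,348,350,1242],[235,829]),(0,[],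[]),(0,[],[]),(0,[],[]),(0,[],[]),(25,[239,462,464,1246,1248,1250,1252],[19,392,446]),(0,[],[]),(0,[],[]),(27,[576,1111,1116,117,755,1256,1258],[239,462]),(0,[],[]),(0,[],[]),(0,[],[]),(0,[],[]),(0,[],[]),(0,[],[]),(0,[],[]),(0,[],[]),(0,[],[]),(0,[],[]),(0,[],[]),(0,[],[]),(29,[576,875,1111,1108,1262,1264,1266,1268,1270,1272,1274,1276,1278,1280,1282,1284],[565,235,598]),(14,[66,68,1256],[108,348]),(0,[],[]),(17,[657,32,1290],[32,1290]),(0,[],[]),(19,[32,1294],[66]),(0,[],[]),(0,[],[]),(0,[],[]),(0,[],[]),(0,[],[]),(24,[26,28,1298,1300,1302,1304,1306],[66,837]),(0,[],[]),(0,[],[]),(25,[25,23,7,9,12,45,43,1310,1312],[686]),(0,[],[]),(0,[],[]),(0,[],[]),(0,[],[]),(0,[],[]),(26,[66,837,1199,389,1316,1318,1320,1322,1324],[686]),(0,[],[]),(0,[],[]),(0,[],[]),(0,[],[]),(0,[],[]),(0,[],[]),(0,[],[]),(0,[],[]),(0,[],[]),(0,[],[]),(0,[],[]),(0,[],[]),(29,[26,28,31,1328,1330,1332,1334,1336,1338,1340,1342,1344,1346,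1348,1350],[108,348,350,1242]),(0,[],[]),(0,[],[]),(0,[],[]),(11,[28,1328],[1327]),(0,[],[]),(12,[28,1362],[1354]),(14,[693,1327,1325],[1327,1325]),(0,[],[]),(15,[1356,1368],[28]),(0,[],[]),(18,[1315,1372],[1327]),(21,[27,686,1356,1358],[]),(1,[1376],[]),(1,[1379,1359],[]),(1,[1355,1380],[]),(1,[1383],[]),(1,[1385,1368],[]),(1,[1364,1386],[]),(1,[1389],[]),(1,[1391,1370],[]),(0,[],[]),(22,[1315,1313,1394],[28,214]),(0,[],[]),(0,[],[]),(0,[],[]),(0,[],[]),(25,[28,1298,1300,1398,1400,1402,1404],[27,32,199]),(0,[],[]),(0,[],[]),(26,[693,687,66,68,70,1408,1410],[27,108,348]),(0,[],[]),(0,[],[]),(27,[687,66,837,1199,1309,1414,1416],[28,1298]),(0,[],[]),(0,[],[]),(7,[1393,1422],[1328]),(0,[],[]),(8,[214,1426],[1362]),(0,[],[]),(0,[],[]),(17,[1393,1429,1430,1432],[214]),(0,[],[]),(18,[214,1436],[1328]),(0,[],[]),(0,[],[]),(20,[1328,1440,1442],[1362,1422]),(21,[],[1362,1392,1298]),(0,[],[]),(0,[],[]),(0,[],[]),(6,[1290],[679,1290]),(0,[],[]),(7,[1290,1456],[684]),(9,[1294],[679,1294]),(0,[],[]),(0,[],[]),(0,[],[]),(14,[1294,1462,1464,1466],[684]),(0,[],[]),(15,[1290,1470],[199]),(0,[],[]),(16,[1290,1474],[1294]),(21,[217],[679,1290]),(0,[],[]),(0,[],[]),(0,[],[]),(0,[],[]),(0,[],[]),(23,[1294,1480,1482,1484,1486,1488],[679,1290,1470]),(0,[],[]),(0,[],[]),(0,[],[]),(24,[34,736,40,42,140,1492,1494,1496],[1294])]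
theorem ok2 : data.stepsOK st2 500 = true := by decide +kernel
def st3 : List Step := [(0,[],[]),(0,[],[]),(0,[],[]),(25,[199,1500,1502,1504],[217,215,29,27,25,45]),(0,[],[]),(0,[],[]),(0,[],[]),(0,[],[]),(0,[],[]),(0,[],[]),(26,[1294,1499,1508,1510,1512,1514,1516,1518],[217,1436]),(0,[],[]),(0,[],[]),(0,[],[]),(0,[],[]),(0,[],[]),(0,[],[]),(27,[34,1522,1524,1526,1528,1530,1532],[199,1500]),(0,[],[]),(0,[],[]),(0,[],[]),(0,[],[]),(0,[],[]),(28,[199,1536,1538,1540,1542,1544],[1294,1480,1482,1484,1486,1488,1490,1471,1474]),(0,[],[]),(0,[],[]),(0,[],[]),(0,[],[]),(0,[],[]),(0,[],[]),(0,[],[]),(0,[],[]),(0,[],[]),(0,[],[]),(0,[],[]),(0,[],[]),(0,[],[]),(0,[],[]),(0,[],[]),(29,[34,736,1548,1550,1552,1554,1556,1558,1560,1562,1564,1566,1568,1570,1572,1574,1576],[684,1469]),(21,[35,217,1435],[]),(21,[1507],[661,677]),(22,[143,1492],[714,1297,1480]),(27,[50,814,56,58,111,348,1413,1411],[755,70]),(1,[1586],[]),(1,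[1589,1409],[]),(1,[1589,1410],[]),(14,[814,1420],[813,814,1420]),(11,[1245,1353],[1420]),(8,[259],[232,1235]),(24,[766,714,837,1309,1414],[1191,766,714,837,1309]),(1,[1600],[]),(1,[1603,1416],[]),(25,[765,766,714,1297,1499],[61,143,1492,1494,1496]),(17,[683,1297,1477],[1297,1477]),(18,[1297,1462],[68]),(9,[1256],[1131,342]),(19,[1611,1464],[1256]),(21,[],[1131,1145,1208,1316]),(1,[1617],[]),(1,[1619,1318],[]),(1,[68,1620],[]),(1,[1619,1317],[]),(1,[1623],[]),(1,[1627,1320],[]),(1,[66,1628],[]),(1,[1631],[]),(1,[1633,1322],[]),(1,[27,1634],[]),(1,[1637],[]),(1,[1639,1367,1638],[]),(1,[1326,1640],[]),(1,[1642],[]),(1,[1645,1361],[]),(1,[29,1646],[]),(1,[1645,1375],[]),(1,[1314,1650],[]),(1,[1649],[]),(1,[1655,1440],[]),(1,[1363,1656],[]),(1,[1655,1439],[]),(1,[215,1660],[]),(1,[1655,1425],[]),(1,[1392,1664],[]),(1,[1655,1330],[]),(1,[1299,1668],[]),(1,[1653],[]),(1,[1673,1373],[]),(1,[1659],[]),(1,[1677,14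42],[]),(1,[1423,1678],[]),(1,[1663],[]),(1,[1683,1437],[]),(1,[1683,1521],[]),(1,[726,1686],[]),(1,[1667],[]),(1,[1691,1445],[]),(1,[1362,1692],[]),(1,[1671],[]),(1,[1697,1332],[]),(1,[1301,1698],[]),(1,[1681,1690],[]),(1,[1689],[]),(1,[1705,1519],[]),(1,[1479,1706],[]),(1,[1703,1695],[]),(1,[1711,1429],[]),(1,[215,1712],[]),(1,[1701],[]),(1,[1717,1334],[]),(1,[1303,1718],[]),(1,[1709],[]),(1,[1723,1517],[]),(1,[1475,1724],[]),(1,[1715],[]),(1,[1729,1427],[]),(1,[1729,1430],[]),(1,[1434,1732],[]),(1,[1721],[]),(1,[1737,1336],[]),(1,[1453,1738],[]),(1,[1727],[]),(1,[1743,1515],[]),(1,[1734],[]),(1,[1747,1580],[]),(1,[1747,1434],[]),(1,[1740],[]),(1,[1753,1453],[]),(26,[1256],[1624,388,1199,836,67,108,850,1216,347]),(11,[72],[1591,72]),(14,[74,76],[1759,74,76]),(11,[1204,85],[76]),(17,[633,271,1459],[271,1459]),(19,[271,1469],[348]),(26,[348],[850,1216,347,1757,1257,69,710,389,387]),(21,[],[745,676,1448]),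(6,[671],[228,1228]),(12,[264],[228,1236]),(12,[1492],[749,1492]),(6,[1473],[731,1473]),(9,[1536],[731,1536]),(16,[1473,1491],[1536]),(21,[1407],[731,1473]),(6,[1751,1748],[1731,1751]),(1,[1787],[]),(1,[1789,1748],[]),(1,[1789,1750],[]),(7,[1793],[1685,1793]),(12,[1397],[1731,1397]),(15,[1793,736],[1397]),(16,[1793,1522],[727,1793]),(1,[1800],[]),(1,[1803,1523],[]),(1,[1803,1524],[]),(21,[1478],[1731,1793,1806]),(1,[1809],[]),(1,[1811,1526],[]),(1,[1475,1812],[]),(1,[1811,1807],[]),(1,[1815],[]),(1,[1819,1528],[]),(1,[1546,1820],[]),(1,[1822],[]),(1,[1825,1545],[]),(1,[1531,1826],[]),(1,[1825,1546],[]),(1,[1829],[]),(1,[1833,1543],[]),(24,[216,199,1500,1502],[727,216,199,1500,1502]),(7,[1228],[751,1228]),(11,[1236],[751,1236]),(26,[234,576,1111,1108,1262],[854,1203,1197,1139,339]),(8,[266],[1774,1238]),(20,[729,731,728,1844],[1844]),(24,[1000,453,1177,275,273,88,57,1245],[276]),(18,[304],[1219,1246]),(26,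[1029,18,235,1224],[803,118,58,260,1111,1108]),(7,[1201,1843],[1843]),(11,[473],[1843,1264]),(14,[338,1137,339,1843],[1843]),(20,[1843],[1127,118,232,1224]),(27,[],[1154,1093,455,1157,353,351,349,850,1261]),(26,[346,861,645,642,522],[1757,1288,349,850,1261]),(21,[1413],[846,859]),(21,[1287],[817,819]),(11,[384,1215,385],[]),(27,[711,67,26,693,28,31,1446,1419],[1309,1307]),(1,[1872],[]),(1,[1875,1450],[]),(1,[1875,1418],[]),(1,[1875,1605],[]),(7,[1211,1856],[1856]),(15,[],[540,1223,541]),(16,[1883,1266],[1266]),(9,[1474],[1455,1474]),(7,[1477,1744],[1462]),(12,[1480],[1461,1480]),(15,[1477,1831],[1480]),(11,[1304,1876],[1755]),(8,[1394,1797,1395],[]),(11,[1312,1675,1313],[]),(21,[1311,41,1798,1797],[]),(1,[1902],[]),(1,[1905,1396],[]),(1,[1313,1906],[]),(1,[1905,1395],[]),(1,[1905,1799],[]),(1,[1908],[]),(1,[1915,1313],[]),(1,[1915,1314],[]),(1,[214,1918],[]),(1,[1920],[]),(1,[1923,29],[]),(1,[1923,214],[]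),(1,[1923,1298],[]),(1,[686,1928],[]),(1,[1931],[]),(1,[1933,1879],[]),(1,[67,1934],[]),(1,[1933,1300],[]),(1,[24,1938],[]),(1,[1937],[]),(1,[1943,1876],[]),(1,[69,1944],[]),(1,[1943,1880],[]),(1,[836,1948],[]),(1,[1941],[]),(1,[1953,1398],[]),(1,[44,1954],[]),(1,[1947],[]),(1,[1959,1896],[]),(1,[755,1960],[]),(1,[1951],[]),(1,[1965,1308],[]),(1,[1957],[]),(1,[1969,1400],[]),(1,[1449,1970],[]),(1,[1963],[]),(1,[1975,1338],[]),(1,[51,1976],[]),(1,[1972],[]),(1,[1981,1771],[]),(1,[1981,1449],[]),(1,[1979],[]),(1,[1987,1340],[]),(1,[970,1988],[]),(1,[1991],[]),(1,[1993,1342],[]),(1,[815,1994],[]),(1,[1997],[])]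
theorem ok3 : data.stepsOK st3 750 = true := by decide +kernel
def st4 : List Step := [(1,[1999,1344],[]),(1,[1421,2000],[]),(1,[2002],[]),(1,[2005,1421],[]),(1,[2005,1595,2004],[]),(1,[2005,1597],[]),(17,[1891],[1610,805,1611,1891]),(9,[1491],[1779,1491]),(21,[],[1779,1472,1500]),(12,[1831],[1889,1831]),(21,[],[1889,1476,1499]),(9,[1482],[1893,1482]),(16,[1895,1530],[1482]),(6,[2025],[2023,2025]),(12,[1484],[2023,1484]),(15,[2025,1834],[1484]),(6,[2031],[2029,2031]),(9,[1486],[2029,1486]),(16,[2031,1541],[1486]),(6,[2037],[2035,2037]),(19,[1607,1508],[1508]),(25,[1497,1495,1493,142,60],[1498,1296,715,767,765]),(19,[1504],[1837,1504]),(25,[1503,2017,1471,1293,1479,1927,1925,687,25,45,1985],[]),(1,[2047],[]),(1,[2049,1837,2048],[]),(1,[2049,1503],[]),(1,[2049,1504],[]),(1,[1403,2054],[]),(1,[2057],[]),(1,[2059,2045,2058],[]),(1,[2059,1506],[]),(1,[2059,1582],[]),(18,[2041,1510],[1510]),(21,[1532],[2027,20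24]),(11,[736],[1795,736]),(12,[736],[1791,736]),(9,[1548],[2073,1548]),(14,[1548,1550],[2071,1548,1550]),(18,[2043,1195],[1195]),(19,[2079,1196],[1196]),(11,[],[388,1967,389]),(27,[1625,1256,1756,346,302],[2083,1625,1256,1756,346]),(1,[2084],[]),(1,[2087,1219],[]),(1,[1216,2088],[]),(1,[2087,303],[]),(1,[2087,304],[]),(1,[2091],[]),(1,[2097,466],[]),(1,[1260,2098],[]),(1,[2097,465],[]),(1,[2097,1246],[]),(1,[2100],[]),(1,[2107,1865],[]),(1,[2107,1260],[]),(1,[2107,1259],[]),(1,[2107,1863],[]),(11,[468],[2108,524]),(0,[],[]),(22,[739,736,2118],[736,2118]),(0,[],[]),(0,[],[]),(0,[],[]),(23,[1805,736,1548,2122,2124,2126],[1791,1792,1916]),(0,[],[]),(0,[],[]),(0,[],[]),(26,[1805,1817,1474,1744,2130,2132,2134],[35,684,1469]),(0,[],[]),(0,[],[]),(0,[],[]),(0,[],[]),(0,[],[]),(27,[1817,1474,2138,2140,2142,2144,2146],[736,40]),(0,[],[]),(0,[],[]),(0,[],[]),(0,[],[]),(0,[],[]),(0,[],[]),(0,[],[]),(0,[],[]),(0,[],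[]),(0,[],[]),(0,[],[]),(0,[],[]),(0,[],[]),(29,[1817,1470,1491,2150,2152,2154,2156,2158,2160,2162,2164,2166,2168,2170,2172,2174],[1795,1805,736]),(8,[2118],[2073,2118]),(16,[1913,2129],[1548]),(17,[1913,1911,1912,2118],[2118]),(18,[2118],[2071,2118]),(0,[],[]),(19,[2118,2186],[1548]),(21,[2177],[2073,1913]),(0,[],[]),(0,[],[]),(0,[],[]),(24,[40,42,1985,2052,1535,2192,2194,2196],[1548]),(0,[],[]),(0,[],[]),(0,[],[]),(0,[],[]),(0,[],[]),(0,[],[]),(25,[737,1817,1470,2200,2202,2204,2206,2208,2210],[2177]),(0,[],[]),(0,[],[]),(0,[],[]),(0,[],[]),(0,[],[]),(26,[1548,2199,2214,2216,2218,2220,2222],[2177,2175,2173]),(0,[],[]),(0,[],[]),(0,[],[]),(0,[],[]),(0,[],[]),(0,[],[]),(0,[],[]),(0,[],[]),(0,[],[]),(0,[],[]),(0,[],[]),(0,[],[]),(0,[],[]),(29,[40,42,140,2226,2228,2230,2232,2234,2236,2238,2240,2242,2244,2246,2248,2250],[2071,1548,2122]),(0,[],[]),(6,[2254],[741,2254]),(0,[],[]),(7,[2254,2258],[743]),(9,[2149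],[741,2149]),(0,[],[]),(0,[],[]),(0,[],[]),(14,[2149,2264,2266,2268],[743]),(15,[2254],[42,677]),(0,[],[]),(16,[2254,2274],[2149]),(0,[],[]),(17,[2254,2278],[196,1473,2200]),(19,[196,1536],[2149]),(21,[41,2177],[741,2254]),(1,[2285],[]),(1,[2287,2257,2286],[]),(1,[2287,2258],[]),(1,[2174,2290],[]),(1,[2287,2274],[]),(1,[2287,2272],[]),(1,[2287,2278],[]),(1,[2212,2298],[]),(1,[2287,2255],[]),(1,[2293],[]),(1,[2305,2260],[]),(1,[2301],[]),(1,[2309,2280],[]),(0,[],[]),(0,[],[]),(0,[],[]),(0,[],[]),(0,[],[]),(23,[2149,2312,2314,2316,2318,2320],[741,2303,2296]),(0,[],[]),(24,[1310,1917,216,199,1536,1538,2324],[2149,2147]),(0,[],[]),(0,[],[]),(0,[],[]),(0,[],[]),(25,[42,1985,2052,2328,2330,2332,2334],[41,2118,2121]),(0,[],[]),(0,[],[]),(0,[],[]),(0,[],[]),(26,[2149,2147,2145,2338,2340,2342,2344],[41,2071,1548]),(27,[1310,2129],[42,1985,2051,1982,2323,2321,2319]),(0,[],[]),(0,[],[]),(0,[],[]),(28,[42,140,1492,2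350,2352,2354],[2149,2312,2314,2316,2318,2320,2322,2297,2294]),(0,[],[]),(0,[],[]),(0,[],[]),(0,[],[]),(0,[],[]),(0,[],[]),(0,[],[]),(0,[],[]),(0,[],[]),(0,[],[]),(29,[1310,1917,727,1685,216,199,1536,2358,2360,2362,2364,2366,2368,2370,2372,2374,2376],[743,2271]),(0,[],[]),(14,[140,2226,2380],[136,256]),(16,[677,2323],[140]),(0,[],[]),(0,[],[]),(24,[1985,2052,2017,1471,1474,1831,2386,2388],[140]),(0,[],[]),(0,[],[]),(0,[],[]),(0,[],[]),(0,[],[]),(0,[],[]),(0,[],[]),(26,[140,2391,2392,2394,2396,2398,2400,2402,2404],[2063]),(0,[],[]),(0,[],[]),(0,[],[]),(0,[],[]),(0,[],[]),(0,[],[]),(0,[],[]),(0,[],[]),(0,[],[]),(0,[],[]),(0,[],[]),(0,[],[]),(0,[],[]),(0,[],[]),(29,[1985,2052,1535,2408,2410,2412,2414,2416,2418,2420,2422,2424,2426,2428,2430,2432,2434],[136,256]),(17,[651,143,2385],[143,2385]),(18,[143,2226],[48]),(0,[],[]),(25,[714,837,1967,2442],[767,2043,765,61,714,1297]),(0,[],[]),(0,[],[]),(0,[],[]),(0,[]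,[]),(0,[],[]),(0,[],[]),(0,[],[]),(29,[60,765,1191,1195,220,755,1256,1288,1768,385,2446,2448,2450,2452,2454,2456,2458],[48,116]),(0,[],[]),(8,[2441,2462],[1128]),(0,[],[]),(19,[2441,2380],[116]),(0,[],[]),(0,[],[]),(22,[2441,2470,2472],[755,1611]),(0,[],[]),(0,[],[]),(23,[116,2461,2476,2478],[1128,1149,340,342,1154]),(0,[],[]),(0,[],[]),(25,[755,70,72,2482,2484],[221,2079,835,1139,340]),(0,[],[]),(0,[],[]),(0,[],[]),(28,[755,1256,2488,2490,2492],[116,2461,2476,2478,2480,1155,343,341,339,473]),(0,[],[]),(0,[],[])]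
theorem ok4 : data.stepsOK st4 1000 = true := by decide +kernel
def st5 : List Step := [(0,[],[]),(0,[],[]),(6,[2500,2502],[2498]),(0,[],[]),(8,[2496,2506],[2498]),(0,[],[]),(9,[814,2510],[2498]),(0,[],[]),(16,[2500,2514],[814]),(0,[],[]),(19,[2496,2518],[814]),(0,[],[]),(20,[813,2498,2522],[2498,2522]),(21,[51,221],[2498,2505]),(1,[2527],[]),(1,[2529,2503],[]),(1,[2529,2504],[]),(0,[],[]),(0,[],[]),(23,[814,1245,2534,2536],[2498,2533,835,1196,297]),(24,[1141,340,1208,2083,387,385,383],[814,56,89]),(1,[2540],[]),(1,[2543,381],[]),(1,[2543,382],[]),(1,[1868,2546],[]),(1,[2548],[]),(1,[2551,1285],[]),(1,[1870,2552],[]),(1,[2551,1286],[]),(1,[2551,1868],[]),(1,[2555],[]),(1,[2561,1283],[]),(1,[2447,2562],[]),(1,[2564],[]),(1,[2567,2448],[]),(1,[2567,2447],[]),(0,[],[]),(0,[],[]),(0,[],[]),(25,[971,1141,340,2487,2572,2574,2576],[51,2441,2470]),(0,[],[]),(0,[],[]),(0,[],[]),(0,[],[]),(0,[],[]),(0,[],[]),(0,[]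,[]),(0,[],[]),(0,[],[]),(0,[],[]),(0,[],[]),(0,[],[]),(29,[1141,340,342,2580,2582,2584,2586,2588,2590,2592,2594,2596,2598,2600,2602],[813,814,1245,1848]),(21,[828,854],[2510]),(11,[89,2544],[119,2461]),(1,[2609],[]),(1,[2611,2476],[]),(1,[378,2612],[]),(1,[2611,2460],[]),(1,[2611,2459],[]),(1,[2615],[]),(1,[2621,2478],[]),(1,[376,2622],[]),(1,[2625],[]),(1,[2627,2480],[]),(7,[],[1195,2532,2522]),(21,[61,767,2630,2525],[]),(1,[2632],[]),(1,[2635,2523],[]),(1,[1194,2636],[]),(1,[2639],[]),(1,[2641,2499],[]),(1,[2531,2642],[]),(1,[2641,2513],[]),(1,[1197,2646],[]),(1,[2641,2509],[]),(1,[2078,2650],[]),(1,[2644],[]),(1,[2655,2531],[]),(1,[2655,2514],[]),(1,[815,2658],[]),(1,[2649],[]),(1,[2663,2511],[]),(1,[2663,2607],[]),(1,[2653],[]),(1,[2669,2507],[]),(1,[2656,2670],[]),(1,[2661],[]),(1,[2675,2516],[]),(1,[2673],[]),(1,[2679,2518],[]),(1,[815,2680],[]),(1,[2679,2497],[]),(1,[2683],[]),(1,[2687,2520],[]),(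8,[1611],[1131,2487]),(27,[1153,342,2115,2110,2103,2111,2114,343,1152,72],[]),(1,[2692],[]),(1,[2695,74],[]),(1,[1593,2696],[]),(1,[2695,73],[]),(1,[2695,2482],[]),(1,[2698],[]),(1,[2705,1593],[]),(1,[2705,1412],[]),(1,[2705,1866],[]),(12,[2617],[1126,473]),(9,[2323],[745,2323]),(11,[2297,2175],[746]),(22,[675,2297,2213,2211],[2297,2213]),(1,[2719],[]),(1,[2721,2211],[]),(1,[2721,2212],[]),(1,[2721,2310],[]),(27,[2065,2061,2062,140,1492,2350],[2297,2176,1548,2199]),(1,[2728],[]),(1,[2731,2351],[]),(1,[2215,2732],[]),(1,[2731,2352],[]),(1,[2196,2736],[]),(1,[2734],[]),(1,[2741,2216],[]),(1,[2741,2215],[]),(1,[2739],[]),(1,[2747,2354],[]),(7,[2385],[2226,2466]),(11,[1492,2742],[2226,2470]),(1,[2753],[]),(1,[2755,2471],[]),(1,[2755,2579],[]),(15,[2385,2321],[1492]),(20,[2226,2462],[749,2226,2462]),(25,[598,845,1205],[854,2081,297,996,351,1767,2137]),(16,[2307,2173],[2271]),(11,[278,642],[2605]),(27,[1849,253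4],[278,2711,2706,1153,342,1154,2629,375]),(1,[2770],[]),(1,[2773,2535],[]),(1,[2773,2536],[]),(20,[642],[847,1289,1612,2580]),(26,[644,462,2111,2108],[1212,1215,386,1209,342,2580]),(12,[296,2664,1245],[]),(15,[],[296,2667,297]),(16,[2785,2539],[2539]),(20,[1207,2783,1353],[2783,1353]),(21,[996,1242],[2783]),(20,[1203,2664,2007],[2664,2007]),(27,[1020,338,1138,1196,297,2539],[1014,1179,2629]),(24,[1142,1112],[338,1138,835,220,755,1256,2488]),(14,[342,2580],[1147,342,2580]),(18,[2487],[1147,2487]),(24,[1208,2083,1625,754,116,2617,2618],[342,2115,468]),(1,[2802],[]),(1,[2805,2457],[]),(1,[2117,2806],[]),(1,[2805,2619],[]),(1,[2809],[]),(1,[2813,2455],[]),(1,[527,2814],[]),(1,[2817],[]),(1,[2819,2453],[]),(25,[341,1138,835,2079,220,2441,2757,2218],[1152,2702]),(7,[1151,2580],[2580]),(11,[1154,545],[2580]),(12,[1154],[1613,2488]),(11,[350],[1289,2488]),(27,[1768,386,1625,1256,2488,2490],[350,997,2539]),(20,[2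830,2829,545],[991,2605]),(14,[370,372,2774,1353,1351],[]),(9,[2774,2782,2539],[]),(21,[],[2839,2787,2833]),(24,[374,376],[2774,1243,351,1768,385,2571,1281,1279]),(1,[2843],[]),(1,[2845,1277],[]),(1,[2845,1278],[]),(27,[374,2628,1093,455,453,451],[2776,2833,2491]),(27,[2795,2538,975,277,275,273,87],[376,2848]),(14,[378,2545,272],[2846,1275]),(19,[2442],[1199,2442]),(21,[],[2778,2825,2582]),(23,[857,2768,2603,2601],[2778,2825,2827,543,541]),(16,[1885,2861],[2861]),(23,[2861,2600,2602,2769,857,2768,2603,2601,2863],[]),(7,[2791,1353],[1353]),(24,[],[2853,86,88,299,297,2539,2777,2840,2492]),(22,[1293,1470,2200],[1470,2200]),(11,[1480],[1462,2475]),(21,[2445],[1461,1477,2138]),(1,[2874],[]),(1,[2877,2857,2876],[]),(1,[2141,2878],[]),(1,[2877,2443],[]),(1,[2877,2444],[]),(1,[2880],[]),(1,[2887,2141],[]),(1,[2887,2142],[]),(9,[2129],[1899,2129]),(19,[1911,2129],[2129]),(7,[],[2006,2677,2007]),(18,[],[2006,2689,2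007]),(21,[],[2793,2897,1346]),(23,[2009,2010,1351,1349],[2793,2897,2010,1351,1349]),(11,[1348,2836,369],[]),(9,[1350,2789,1351],[]),(12,[1349],[2907,1349]),(16,[],[1350,2867,1351]),(14,[2061,2407,2405],[2407,2405]),(8,[2200],[1779,2200]),(24,[2138,2890],[1475,1479,1916,2191,2296,2323,2321]),(19,[1585,2744],[1482]),(8,[2919],[2023,2919]),(7,[1782,2358],[2150]),(6,[2761],[1777,2761]),(16,[2761,2319],[2744]),(21,[1494],[1777,2761]),(27,[1495,2744],[1496,2021,1475,1479,727,1916,2129]),(24,[2017,1471,1479,1916,2129,2127],[1535,1533,1834]),(21,[2386],[2019,1894]),(18,[2282,2264],[2358]),(21,[2324],[2039,2036]),(8,[2189],[2075,2189]),(12,[2122],[2075,2122]),(15,[2181,2127],[2122]),(17,[2181,2895,2180,2189],[2189]),(21,[2347],[2075,2181,2348]),(1,[2948],[]),(1,[2951,2345],[]),(1,[2319,2952],[]),(1,[2951,2346],[]),(1,[2955],[]),(1,[2959,2343],[]),(21,[2337],[2179,2183]),(6,[2945],[2943,2945]),(21,[2253],[2943,2945]),(21,[2932],[2965,2944]),(26,[],[2131,1745,1475,1816,1805,1795,35,684,1469,2137,2135]),(1,[2971],[]),(1,[2973,2133],[]),(1,[2973,2134],[]),(19,[2765,2706,2702],[2977]),(1,[2978],[]),(1,[2981,2823],[]),(1,[2981,2703],[]),(1,[2981,2484],[]),(22,[2882,1967,2883,2890],[2890]),(24,[2884,1480,2935,2388,2392],[2889,2884,1480,2935,2388]),(1,[2990],[]),(1,[2993,2394],[]),(1,[2993,2393],[]),(19,[2989,2144],[2144])]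
theorem ok5 : data.stepsOK st5 1250 = true := by decide +kernel
def st6 : List Step := [(27,[],[2327,2325,1540,2933,2125,2123,1549,2177,2294]),(6,[2277],[2263,2277]),(12,[2312],[2263,2312]),(15,[2277,2357],[2312]),(15,[],[2170,2766,2379]),(8,[2725],[2289,2725]),(12,[2196,2921,2197],[]),(15,[],[2196,2927,2317]),(6,[2927],[2921,2927]),(25,[2206,2208,2723,2724,2176,2118,2121,2963,2335,2333],[]),(21,[2209],[3011,2726,2202]),(1,[3020],[]),(1,[3023,2207],[]),(1,[3023,2208],[]),(7,[],[2743,2761,2960]),(15,[3028],[2756,2466]),(11,[2983,2975,2982,2220],[]),(1,[3032],[]),(1,[3035,2221],[]),(1,[3035,2222],[]),(22,[],[2983,2984,2701,2985,2982]),(19,[],[3039,3041,3038]),(21,[2966,2932,2030,2029],[]),(1,[3045],[]),(1,[3047,2251],[]),(1,[3047,2252],[]),(1,[3047,2966],[]),(12,[2357],[3003,2357]),(9,[2314],[3005,2314]),(21,[],[3057,3015,2195]),(21,[2917],[2925,2760]),(21,[],[2715,2384,2391]),(25,[2334,2336,2121,2119,40,1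96,198,34,736,2118,2963],[]),(1,[3064],[]),(1,[3067,2335],[]),(1,[3067,2336],[]),(1,[3067,2962],[]),(24,[3063,2321,2929,1496,1508],[2997,3063,2321,2929,1496]),(1,[3074],[]),(1,[3077,1510],[]),(1,[3077,1509],[]),(27,[2841,2774,1243,352,354,356,2557,2571],[2492]),(25,[],[2573,2486,341,1140,971,2685,51,2441,2757,2758,2577]),(1,[3085],[]),(1,[3087,2576],[]),(21,[2599],[2864,1885]),(7,[],[2837,2911,2836]),(15,[3093,369],[369]),(16,[3093,370],[370]),(7,[],[2905,3095,2904]),(0,[],[]),(22,[2689,1245,3100],[1245,3100]),(0,[],[]),(0,[],[]),(0,[],[]),(0,[],[]),(25,[1245,1243,351,1767,3104,3106,3108,3110],[828,1235]),(0,[],[]),(0,[],[]),(0,[],[]),(26,[815,1141,339,1843,3114,3116,3118],[828,1224,1227]),(0,[],[]),(0,[],[]),(0,[],[]),(0,[],[]),(0,[],[]),(0,[],[]),(0,[],[]),(0,[],[]),(0,[],[]),(0,[],[]),(0,[],[]),(0,[],[]),(29,[56,89,272,2854,3122,3124,3126,3128,3130,3132,3134,3136,3138,3140,3142,3144],[2007,2009,2010]),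(0,[],[]),(0,[],[]),(0,[],[]),(22,[259,2437,3150,3152],[89]),(0,[],[]),(0,[],[]),(25,[89,2559,384,3156,3158],[57,2689,1245,1848,278]),(0,[],[]),(0,[],[]),(0,[],[]),(0,[],[]),(29,[299,297,2539,3162,3164,3166,3168],[119,117,755,1624,388,1199,1967,836,68,1256,2488,2797]),(0,[],[]),(0,[],[]),(0,[],[]),(0,[],[]),(29,[766,714,67,108,300,2093,347,3172,3174,3176,3178],[1195,1196,297,996,2830,2490,2492,2869]),(0,[],[]),(24,[70,2701,1153,341,339,473,3182],[1256,1756]),(0,[],[]),(0,[],[]),(0,[],[]),(25,[754,50,971,2685,1141,2465,3186,3188,3190],[1624]),(0,[],[]),(0,[],[]),(0,[],[]),(6,[3196,3198],[3194]),(7,[3196],[1591,3196]),(0,[],[]),(0,[],[]),(16,[3196,3206],[2707]),(0,[],[]),(0,[],[]),(0,[],[]),(17,[3196,3210,3212,3214],[2985]),(0,[],[]),(20,[1591,3194,3218],[3194,3218]),(21,[71,1624],[3194,3201]),(1,[3223],[]),(1,[3225,3199],[]),(1,[3225,3200],[]),(0,[],[]),(0,[],[]),(0,[],[]),(25,[2701,1153,341,2465,3230,3232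,3234],[71,1611,2475]),(0,[],[]),(0,[],[]),(0,[],[]),(0,[],[]),(0,[],[]),(0,[],[]),(0,[],[]),(0,[],[]),(0,[],[]),(0,[],[]),(29,[1153,341,339,1843,3114,3238,3240,3242,3244,3246,3248,3250,3252,3254,3256],[1591,2707,1204,844]),(0,[],[]),(6,[3209,3260],[3204]),(0,[],[]),(7,[3209,3264],[76]),(0,[],[]),(0,[],[]),(15,[3209,3270],[1204]),(0,[],[]),(0,[],[]),(0,[],[]),(17,[3209,3274,3276,3278],[2764]),(0,[],[]),(18,[2764,3282],[76]),(0,[],[]),(0,[],[]),(0,[],[]),(20,[76,3286,3288,3290],[3204]),(21,[2710,1212],[3204,3263]),(1,[3295],[]),(1,[3297,3261],[]),(1,[3297,3262],[]),(0,[],[]),(0,[],[]),(0,[],[]),(22,[2764,3302,3304,3306],[1204]),(0,[],[]),(0,[],[]),(0,[],[]),(0,[],[]),(25,[1204,86,88,259,3310,3312,3314,3316],[2710,3161]),(0,[],[]),(26,[2706,1153,342,2580,2582,3320],[2710,642,857,2858]),(0,[],[]),(27,[2708,349,300,347,3185,3324],[1204,86,272]),(0,[],[]),(0,[],[]),(0,[],[]),(0,[],[]),(0,[],[]),(0,[],[]),(0,[]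,[]),(0,[],[]),(0,[],[]),(0,[],[]),(0,[],[]),(0,[],[]),(0,[],[]),(29,[2708,350,352,3328,3330,3332,3334,3336,3338,3340,3342,3344,3346,3348,3350,3352],[76,1761,1763]),(0,[],[]),(6,[3267,3356],[3286]),(0,[],[]),(8,[3285,3360],[3286]),(0,[],[]),(12,[1763,3364],[3286]),(0,[],[]),(0,[],[]),(0,[],[]),(17,[3267,3368,3370,3372],[3285]),(19,[3285],[1761,3285]),(0,[],[]),(21,[3378],[3286,3359]),(0,[],[]),(0,[],[]),(0,[],[]),(22,[3285,3382,3384,3386],[1763]),(0,[],[]),(0,[],[]),(0,[],[]),(23,[1761,1763,83,81,3390,3392,3394],[3286,3359]),(0,[],[]),(0,[],[]),(0,[],[]),(0,[],[]),(0,[],[]),(0,[],[]),(0,[],[]),(0,[],[]),(0,[],[]),(0,[],[]),(25,[1763,3402,3404,3406,3408,3410,3412,3414,3416],[3378]),(0,[],[]),(0,[],[]),(0,[],[]),(0,[],[]),(0,[],[]),(0,[],[]),(26,[1761,78,3390,3420,3422,3424,3426,3428,3430],[3378]),(0,[],[]),(0,[],[]),(0,[],[]),(0,[],[]),(0,[],[]),(27,[78,3390,3434,3436,3438,3440,3442],[1763,3402]),(28,[1763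,83,81,3390,3392,3394,3396],[1761,1763,83,81,3390,3392,3394,3396]),(0,[],[]),(0,[],[]),(0,[],[]),(0,[],[]),(0,[],[]),(6,[3454,3456],[3450]),(0,[],[]),(7,[3454,3460],[3452]),(0,[],[]),(8,[3448,3464],[3450]),(0,[],[]),(9,[3390,3468],[3450]),(0,[],[]),(11,[80,3472],[3452]),(0,[],[]),(12,[80,3476],[3450]),(0,[],[]),(0,[],[]),(14,[3390,3420,3480,3482],[3452]),(0,[],[]),(16,[3454,3486],[3390]),(0,[],[]),(0,[],[]),(0,[],[]),(17,[3454,3490,3492,3494],[3448]),(0,[],[])]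
theorem ok6 : data.stepsOK st6 1500 = true := by decide +kernel
def st7 : List Step := [(18,[3448,3498],[3452]),(0,[],[]),(19,[3448,3502],[3390]),(0,[],[]),(21,[79,3378],[3450,3459]),(1,[3509],[]),(1,[3511,3458],[]),(0,[],[]),(0,[],[]),(0,[],[]),(22,[3448,3514,3516,3518],[80]),(23,[3390,3392,3394,3396,3447,3397,3395,3393,3489],[3450]),(1,[3522],[]),(1,[3525,3487],[]),(1,[3470,3526],[]),(1,[3525,3488],[]),(1,[3512,3530],[]),(1,[3528],[]),(1,[3535,3470],[]),(1,[3533],[]),(1,[3539,3420],[]),(1,[3432,3540],[]),(1,[3539,3391],[]),(1,[3539,3505],[]),(1,[3418,3546],[]),(1,[3539,3434],[]),(1,[3378,3550],[]),(1,[3542],[]),(1,[3555,3432],[]),(1,[3555,3431],[]),(1,[3481,3558],[]),(1,[3549],[]),(1,[3563,3503],[]),(1,[3553],[]),(1,[3567,3436],[]),(1,[1760,3568],[]),(1,[3560],[]),(1,[3573,3482],[]),(1,[3573,3481],[]),(1,[3571],[]),(1,[3579,3438],[]),(1,[1762,3580],[]),(1,[3583],[]),(1,[3585,3440],[]),(1,[82,3586],[]),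(1,[3589],[]),(1,[3591,3442],[]),(0,[],[]),(0,[],[]),(0,[],[]),(0,[],[]),(24,[3594,3596,3598,3600],[3545,3379,1763,3402,3404]),(0,[],[]),(0,[],[]),(0,[],[]),(0,[],[]),(25,[80,3398,3400,3604,3606,3608,3610],[79,3285,3382]),(0,[],[]),(0,[],[]),(0,[],[]),(0,[],[]),(0,[],[]),(0,[],[]),(27,[3594,3614,3616,3618,3620,3622,3624],[80,3398]),(0,[],[]),(0,[],[]),(0,[],[]),(0,[],[]),(0,[],[]),(0,[],[]),(0,[],[]),(0,[],[]),(0,[],[]),(0,[],[]),(0,[],[]),(0,[],[]),(0,[],[]),(0,[],[]),(0,[],[]),(29,[3594,3596,3628,3630,3632,3634,3636,3638,3640,3642,3644,3646,3648,3650,3652,3654,3656],[3452,3485]),(9,[82,3364],[3476]),(14,[82,84,2852,3181,3179],[3472]),(1,[3663],[]),(1,[3665,3473],[]),(1,[3665,3474],[]),(1,[3176,3668],[]),(1,[3671],[]),(1,[3673,3506],[]),(1,[3673,3453],[]),(1,[3673,3485],[]),(1,[3673,3501],[]),(1,[3673,3463],[]),(19,[3521],[82,3389]),(18,[3389],[84,3309]),(21,[844,2557],[3268]),(20,[2544,2712,1856],[816,3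259]),(16,[671],[256,3148]),(11,[598,3259],[1224]),(19,[954],[645,3161]),(12,[2437],[1598,3113]),(24,[261,111,300,2093,347,3185],[1111,1116,2617]),(9,[1469],[981,3696]),(26,[277,1000,454,3171],[974,1207,2539,2794,2628,545]),(14,[347,3172],[1217,2111,2108]),(25,[340,1208,2083,3193],[1140,2685,971,51,755,1611]),(25,[350,997,296,2081,855,1235,3113],[2709,2764,3302]),(21,[],[841,843,3327]),(11,[],[372,2776,3162]),(6,[3688,3269,3273],[]),(7,[3300,3293],[1215,3300]),(1,[3718],[]),(1,[3721,3291],[]),(1,[3204,3722],[]),(1,[3725],[]),(1,[3727,3289],[]),(1,[77,3728],[]),(1,[3731],[]),(1,[3733,3367],[]),(1,[1762,3734],[]),(1,[3733,3363],[]),(1,[3284,3738],[]),(1,[3733,3359],[]),(1,[3266,3742],[]),(1,[3737],[]),(1,[3747,3660],[]),(1,[82,3748],[]),(1,[3741],[]),(1,[3753,3361],[]),(1,[3745],[]),(1,[3757,3381],[]),(1,[3751],[]),(1,[3761,3478],[]),(1,[80,3762],[]),(1,[3765],[]),(1,[3767,3537],[]),(1,[3544,3768],[]),(1,[3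767,3467],[]),(1,[3449,3772],[]),(1,[3771],[]),(1,[3777,3460],[]),(1,[3556,3778],[]),(1,[3777,3490],[]),(1,[3418,3782],[]),(1,[3775],[]),(1,[3787,3465],[]),(1,[3781],[]),(1,[3791,3683],[]),(1,[3785],[]),(1,[3795,3492],[]),(8,[3156],[3298,3274]),(18,[3156],[1215,3156]),(19,[3156],[386,3193]),(7,[3228,3218],[388]),(8,[3193],[3226,3210]),(18,[3193],[388,2883]),(20,[388],[3226,3203,3227,388]),(8,[2883],[3811,2883]),(21,[836,710,3805,3221],[]),(1,[3814],[]),(1,[3817,3219],[]),(1,[388,3818],[]),(1,[3821],[]),(1,[3823,3195],[]),(1,[3227,3824],[]),(1,[3826],[]),(1,[3829,3206],[]),(1,[2706,3830],[]),(1,[3829,3210],[]),(1,[2984,3834],[]),(1,[3833],[]),(1,[3839,3264],[]),(1,[77,3840],[]),(1,[3839,3270],[]),(1,[1205,3844],[]),(1,[3839,3274],[]),(1,[2765,3848],[]),(1,[3837],[]),(1,[3853,3807],[]),(1,[3853,3212],[]),(1,[3216,3856],[]),(1,[3843],[]),(1,[3861,3368],[]),(1,[3284,3862],[]),(1,[3861,3758],[]),(1,[79,3866],[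]),(1,[3847],[]),(1,[3871,3716],[]),(1,[3851],[]),(1,[3875,3799],[]),(1,[3875,3276],[]),(1,[3280,3878],[]),(1,[3858],[]),(1,[3883,3215],[]),(1,[3883,3216],[]),(1,[3865],[]),(1,[3889,3370],[]),(1,[3374,3890],[]),(1,[3869],[]),(1,[3895,3557],[]),(1,[3676,3896],[]),(1,[3895,3544],[]),(1,[3895,3419],[]),(1,[3449,3902],[]),(1,[3895,3379],[]),(1,[3595,3906],[]),(1,[3880],[]),(1,[3911,3280],[]),(1,[3892],[]),(1,[3915,3373],[]),(1,[3915,3374],[]),(1,[3899],[]),(1,[3921,3577],[]),(1,[3679,3922],[]),(1,[3921,3792],[]),(1,[3921,3422],[]),(1,[3904],[]),(1,[3931,3789,3930],[]),(1,[3931,3498],[]),(1,[3931,3565],[]),(1,[3931,3514],[]),(1,[3416,3938],[]),(1,[3931,3449],[]),(1,[3931,3497],[]),(1,[3797,3944],[]),(1,[3908],[]),(1,[3949,3614],[]),(1,[1760,3950],[]),(1,[3949,3596],[]),(1,[1762,3954],[]),(1,[3949,3595],[]),(1,[3924],[]),(1,[3961,3575],[]),(1,[3961,3679],[]),(1,[3961,3659],[]),(1,[3941],[]),(1,[3969,3516],[]),(1,[3947],[]),(1,[3973,3495],[]),(1,[3953],[]),(1,[3977,3616],[]),(1,[79,3978],[]),(1,[3957],[]),(1,[3983,3628],[]),(1,[82,3984],[]),(1,[3983,3598],[]),(1,[3403,3988],[]),(1,[3981],[]),(1,[3993,3618],[]),(1,[3900,3994],[]),(1,[3987],[])]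
theorem ok7 : data.stepsOK st7 1750 = true := by decide +kernel
def st8 : List Step := [(1,[3999,3630],[]),(1,[3666,4000],[]),(1,[3991],[]),(1,[4005,3600],[]),(1,[3405,4006],[]),(1,[3997],[]),(1,[4011,3620],[]),(1,[81,4012],[]),(1,[4003],[]),(1,[4017,3632],[]),(1,[4009],[]),(1,[4021,3602],[]),(1,[4015],[]),(1,[4025,3622],[]),(1,[83,4026],[]),(1,[4029],[]),(1,[4031,3624],[]),(1,[3354,4032],[]),(1,[4035],[]),(1,[4037,3626],[]),(11,[1112,3171],[1108]),(15,[1163,4041],[4041]),(26,[450,1177,276,2605],[2850,2831,352,1156,454,3171]),(26,[3707,3174,3965,3963],[523,643,644,860,347,3172]),(21,[3121],[1861,1855,3114]),(1,[4048],[]),(1,[4051,3119],[]),(1,[4051,3120],[]),(9,[1266],[3690,3257]),(11,[1280,2568],[3181]),(21,[3147],[2789,2867]),(12,[1579],[3702,3319]),(26,[1475,1479,727,1685,216,684,1469,3104],[2020,3078]),(14,[3081,3078,4065],[3078,4065]),(19,[2067,4065,3106],[4065]),(1,[4068],[]),(1,[4071,3108],[]),(7,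[3887],[2975,3887]),(12,[2982],[3854,3191]),(16,[3887],[2976,3913]),(21,[2131,1513],[3854]),(7,[3913],[3282,3919]),(11,[3302],[3282,3382]),(7,[],[3809,4081,3079]),(11,[2890,2338],[3809,3191]),(1,[4089],[]),(1,[4091,4077],[]),(1,[4091,3190],[]),(1,[4091,3189],[]),(12,[2890],[3813,2890]),(15,[4086,1497],[2890]),(6,[4101],[4099,4101]),(9,[2144],[4099,2144]),(12,[2327],[4105,2327]),(12,[2756,2462,3186],[]),(20,[2743,1777,2742,4109],[4109]),(21,[2219,2758],[4093]),(7,[4113],[2339,4101]),(15,[4113,3089],[4094,4081]),(1,[4116],[]),(1,[4119,3088],[]),(1,[4119,2573],[]),(26,[2490,2841,2774,1353,4061,3145,3143],[2797,3171,3169]),(26,[3323],[2583,2581,343,1152,2707,76,3958,3677,3965,3429]),(1,[4127],[]),(1,[4129,3427],[]),(1,[3323,4130],[]),(1,[4129,3428],[]),(1,[4133],[]),(1,[4137,3425],[]),(1,[3321,4138],[]),(1,[4141],[]),(1,[4143,3929],[]),(11,[4072],[4067,4072]),(16,[],[4064,4080,3803]),(21,[3105,2137,3913],[]),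(21,[3115,1263,1163],[]),(9,[4053,4153,923],[]),(21,[],[4155,1161,366]),(12,[4040,4152,3238],[]),(15,[3927,3176],[3176]),(16,[3927,3965],[3965]),(21,[3175,4047,4163],[3674]),(1,[4165],[]),(1,[4167,3675],[]),(12,[3177,4169,3966],[]),(6,[4081],[3855,3887]),(14,[4078,4082],[4075,4078,4082]),(21,[],[4173,4080,3708]),(6,[],[4158,4043,4159]),(9,[3240],[4158,3169]),(16,[4179,3240],[3240]),(21,[],[4158,4043,3704]),(26,[3240],[4184,544,2629,375,2774,1353,3147,3145,3143]),(20,[4082],[4150,4067,4151,4082]),(21,[],[4150,4148,3158]),(25,[],[4190,3160,279,974,296,2081,298,259,2437,2435]),(12,[3382],[3755,3382]),(15,[],[3303,3913,4192]),(18,[3304],[4084,3384]),(24,[3354,1762,78,80,82,1762,3958,80,3592,3444],[]),(1,[4200],[]),(1,[4203,3445],[]),(1,[4039,4204],[]),(1,[4203,3404],[]),(1,[4203,3403],[]),(1,[4207],[]),(1,[4213,3593],[]),(11,[],[4083,4192,2433]),(12,[4216],[4189,4216]),(15,[3918,3382],[4216]),(8,[3384],[4195,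3384]),(21,[3613],[4195,4220]),(12,[3386],[4223,3386]),(9,[3685],[4227,3685]),(19,[3406],[4023,3406]),(12,[3416,3933,3417],[]),(6,[3796],[3933,3796]),(16,[3796],[3937,3796]),(8,[3971,4233,3970],[]),(21,[3657],[4170,4161,4018]),(1,[4240],[]),(1,[4243,3655],[]),(1,[4243,3656],[]),(26,[379,2848,2853,85,4211,3353,3351],[2811,2116,526]),(24,[476],[3696,4191,4192,2434,2436,257,264,483,481]),(1,[4251],[]),(1,[4253,480],[]),(1,[4253,479],[]),(25,[4254,482,265,138,16,392,446],[477,955,238,19]),(1,[4258],[]),(1,[4261,1164],[]),(1,[1097,4262],[]),(1,[4261,447],[]),(1,[926,4266],[]),(1,[4261,1255],[]),(1,[16,4270],[]),(1,[4265],[]),(1,[4275,314],[]),(1,[874,4276],[]),(1,[4275,313],[]),(1,[576,4280],[]),(1,[4269],[]),(1,[4285,426],[]),(1,[1029,4286],[]),(1,[4285,393],[]),(1,[4273],[]),(1,[4293,1253],[]),(1,[110,4294],[]),(1,[4279],[]),(1,[4299,316],[]),(1,[4283],[]),(1,[4303,311],[]),(1,[238,4304],[]),(1,[4289],[]),(1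,[4309,1017],[]),(1,[4297],[]),(1,[4313,1251],[]),(1,[270,4314],[]),(1,[4307],[]),(1,[4319,309],[]),(1,[955,4320],[]),(1,[4317],[]),(1,[4325,1249],[]),(1,[4322],[]),(1,[4329,980],[]),(1,[4329,983,4328],[]),(1,[4329,3696],[]),(1,[4329,1241],[]),(1,[4329,955],[]),(1,[4329,476],[]),(24,[2780,2827,4185,3239,4052],[3707,3174,3176,4018,3634]),(1,[4343],[]),(1,[4345,3636],[]),(1,[4052,4346],[]),(1,[4345,3635],[]),(1,[4349],[]),(1,[4353,3638],[]),(1,[3117,4354],[]),(1,[4357],[]),(1,[4359,3640],[]),(27,[4185,3240,4186,3142],[2826,2582,3323,4134,3964,3176]),(1,[4363],[]),(1,[4365,3666],[]),(1,[3145,4366],[]),(1,[4365,3178],[]),(1,[3142,4370],[]),(1,[4365,3177],[]),(1,[4365,4018],[]),(1,[4368],[]),(1,[4379,3145],[]),(1,[4379,3146],[]),(1,[3399,4382],[]),(1,[4373],[]),(1,[4387,4059],[]),(1,[3140,4388],[]),(1,[4384],[]),(1,[4393,4039],[]),(1,[1350,4394],[]),(1,[4393,3400],[]),(1,[2010,4398],[]),(1,[4393,4214],[]),(1,[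4393,3399],[]),(1,[4390],[]),(1,[4407,3140],[]),(1,[4397],[]),(1,[4411,3353],[]),(1,[2837,4412],[]),(1,[4411,4208],[]),(1,[1348,4416],[]),(1,[4411,3354],[]),(1,[4411,4210],[]),(1,[4401],[]),(1,[4425,3604],[]),(1,[2898,4426],[]),(1,[4415],[]),(1,[4431,3351],[]),(1,[371,4432],[]),(1,[4419],[]),(1,[4437,3406],[]),(1,[4429],[]),(1,[4441,3606],[]),(1,[1347,4442],[]),(1,[4435],[]),(1,[4447,3349],[]),(1,[3715,4448],[]),(1,[4447,4248],[]),(1,[4445],[]),(1,[4455,3608],[]),(1,[4439,4456],[]),(1,[4451],[]),(1,[4461,3347],[]),(1,[4459],[]),(1,[4465,3610],[]),(25,[2010,4402,81,3943],[2900,4438,4466,4224,4217,3917]),(26,[2009,1346,2903,2905,4157,3117,4052,4360],[2900,2905]),(8,[4438],[2909,4438]),(25,[1348,4420,1762,3285],[1347,2899,2010,4404,81,3943]),(26,[1351,4420,83,4380,4376,4244,3653],[4404,4380,3143,4187]),(1,[4476],[]),(1,[4479,3652],[]),(1,[3240,4480],[]),(1,[4479,3651],[]),(1,[4483],[]),(1,[4487,4245],[]),(9,[2430,4219,2431],[]),(12,[2429],[4491,2429]),(12,[4193,4150,4072],[]),(27,[2450],[4408,4124,3168,3704,543,541,2861,2599]),(21,[],[2835,1221,4185])]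
theorem ok8 : data.stepsOK st8 2000 = true := by decide +kernel
def st9 : List Step := [(12,[3166,4181,4484],[]),(21,[3165,4462],[4501]),(15,[4183,4484,4503],[4484]),(1,[4505],[]),(1,[4507,4485],[]),(1,[4507,3649],[]),(12,[4466],[4473,4466]),(21,[4475],[3933,3796]),(21,[],[4235,3797,4468]),(16,[],[4470,3095,4471]),(21,[4361,4156,3095],[]),(12,[3643,4521,368],[]),(15,[],[3643,4519,3642]),(9,[3645,4523,370],[]),(20,[3646],[4527,372,2839,3162]),(21,[],[4527,3097,4452]),(12,[],[4528,3715,4526]),(26,[117,50,814,2007,1346,2905,4471],[1117,1108,923]),(19,[4301,1111],[1111]),(21,[307],[4330,1459]),(18,[4311,1008],[1008]),(8,[4541,4154],[4154]),(19,[4541,922],[922]),(8,[4545,4152],[4152]),(24,[],[526,4531,4533,4511,4508,3241,3239,3115,1264]),(27,[1852,923,366,4471,3642,3644,4530,527],[3695]),(0,[],[]),(0,[],[]),(18,[3521,4554],[4380]),(0,[],[]),(0,[],[]),(0,[],[]),(0,[],[]),(0,[],[]),(25,[81,3959,1763,3389,4558,4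560,4562,4564,4566],[4403]),(0,[],[]),(0,[],[]),(0,[],[]),(0,[],[]),(0,[],[]),(0,[],[]),(25,[1762,78,80,3521,4572,4574,4576,4578,4580],[4421]),(0,[],[]),(0,[],[]),(0,[],[]),(8,[3309,4588],[3872]),(0,[],[]),(0,[],[]),(19,[3309,4594],[2852]),(0,[],[]),(0,[],[]),(0,[],[]),(0,[],[]),(0,[],[]),(0,[],[]),(25,[1205,2708,350,4598,4600,4602,4604,4606,4608],[844]),(0,[],[]),(0,[],[]),(0,[],[]),(26,[2852,2868,2494,1856,4612,4614,4616],[844,3259,3257]),(8,[3155],[816,4611]),(0,[],[]),(17,[819,3155,4622],[3155,4622]),(0,[],[]),(18,[3155,4626],[2544]),(0,[],[]),(19,[3155,4630],[272]),(0,[],[]),(24,[2559,384,1213,279,277,275,4634],[272,3327]),(0,[],[]),(0,[],[]),(0,[],[]),(0,[],[]),(25,[88,299,297,4638,4640,4642,4644],[87,3309,3307]),(0,[],[]),(26,[272,3327,3325,4648],[87,85,83,4403,1351,2836]),(0,[],[]),(25,[110,16,927,4291,18,231,1236,4652],[850,2104]),(0,[],[]),(8,[2469,4656],[1126]),(0,[],[]),(0,[],[]),(0,[],[]),(0,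[],[]),(25,[2617,3701,3184,4664,4666],[1117,4537,1112,1092,1155]),(0,[],[]),(14,[2323,2750,4670],[746,3692]),(0,[],[]),(0,[],[]),(24,[2065,1404,1406,198,1294,1480,4674,4676],[2323]),(0,[],[]),(0,[],[]),(0,[],[]),(0,[],[]),(0,[],[]),(0,[],[]),(0,[],[]),(26,[2323,4679,4680,4682,4684,4686,4688,4690,4692],[1983]),(0,[],[]),(0,[],[]),(0,[],[]),(0,[],[]),(0,[],[]),(0,[],[]),(0,[],[]),(0,[],[]),(0,[],[]),(0,[],[]),(0,[],[]),(0,[],[]),(0,[],[]),(0,[],[]),(0,[],[]),(29,[2065,1404,4696,4698,4700,4702,4704,4706,4708,4710,4712,4714,4716,4718,4720,4722,4724],[746,3692]),(0,[],[]),(21,[4728],[228,1228]),(0,[],[]),(0,[],[]),(0,[],[]),(0,[],[]),(0,[],[]),(23,[256,2437,4732,4734,4736,4738,4740],[228,1228]),(0,[],[]),(0,[],[]),(0,[],[]),(0,[],[]),(0,[],[]),(0,[],[]),(0,[],[]),(24,[4744,4746,4748,4750,4752,4754,4756],[256,3310]),(0,[],[]),(0,[],[]),(0,[],[]),(0,[],[]),(0,[],[]),(0,[],[]),(0,[],[]),(0,[],[]),(25,[264,4760,47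62,4764,4766,4768,4770,4772,4774],[4728]),(0,[],[]),(0,[],[]),(0,[],[]),(0,[],[]),(0,[],[]),(0,[],[]),(0,[],[]),(26,[256,3310,4778,4780,4782,4784,4786,4788,4790],[4728]),(0,[],[]),(0,[],[]),(0,[],[]),(0,[],[]),(0,[],[]),(0,[],[]),(27,[4744,4794,4796,4798,4800,4802,4804],[264,4760]),(0,[],[]),(0,[],[]),(0,[],[]),(0,[],[]),(28,[264,2271,2379,4808,4810,4812,4814],[256,2437,4732,4734,4736,4738,4740,4742]),(0,[],[]),(0,[],[]),(0,[],[]),(0,[],[]),(0,[],[]),(0,[],[]),(0,[],[]),(0,[],[]),(0,[],[]),(0,[],[]),(0,[],[]),(0,[],[]),(29,[4744,4746,4818,4820,4822,4824,4826,4828,4830,4832,4834,4836,4838,4840],[137,140,1492,1494,4115]),(21,[],[749,2385,4679]),(25,[1492,3061,2891,2882,711,1297,1480,2935,2388],[4844]),(0,[],[]),(0,[],[]),(0,[],[]),(0,[],[]),(0,[],[]),(26,[141,1985,2051,4695,4848,4850,4852,4854,4856],[4844]),(0,[],[]),(0,[],[]),(0,[],[]),(0,[],[]),(0,[],[]),(0,[],[]),(0,[],[]),(0,[],[]),(0,[],[]),(0,[],[]),(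0,[],[]),(0,[],[]),(0,[],[]),(0,[],[]),(29,[2391,2389,4860,4862,4864,4866,4868,4870,4872,4874,4876,4878,4880,4882,4884,4886],[2226,2380,4662]),(0,[],[]),(7,[1473,4890],[728]),(0,[],[]),(0,[],[]),(14,[1536,2358,4894,4896],[728]),(0,[],[]),(0,[],[]),(24,[1500,2053,1982,2297,2294,2357,4900,4902],[1536]),(0,[],[]),(0,[],[]),(0,[],[]),(25,[198,34,736,2118,3073,2333,4906,4908,4910],[1407]),(0,[],[]),(0,[],[]),(0,[],[]),(0,[],[]),(0,[],[]),(0,[],[]),(0,[],[]),(26,[1536,4905,4914,4916,4918,4920,4922,4924,4926],[1407]),(0,[],[]),(0,[],[]),(0,[],[]),(0,[],[]),(0,[],[]),(0,[],[]),(0,[],[]),(0,[],[]),(0,[],[]),(0,[],[]),(0,[],[]),(0,[],[]),(29,[1500,2053,2051,4695,4848,4930,4932,4934,4936,4938,4940,4942,4944,4946,4948,4950,4952],[728,4899]),(0,[],[]),(26,[727,216,1294,1462,4177,4075,4078,4956],[1478,1456]),(0,[],[]),(27,[216,1294,1499,3081,1497,4960],[1916,2191,2294]),(0,[],[]),(25,[835,220,755,1611,4177,3885,4964],[1139,2465,3186]),(0,[],[]),(14,[1232,4968],[751,1232,4968]),(15,[1228,4743],[1236]),(16,[1228,4817],[1232]),(0,[],[]),(21,[4976],[229,671]),(0,[],[]),(0,[],[]),(23,[1232,3113,4980,4982],[229,671,2717,2173,2171]),(0,[],[]),(0,[],[]),(0,[],[]),(0,[],[]),(0,[],[]),(0,[],[]),(0,[],[])]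
theorem ok9 : data.stepsOK st9 2250 = true := by decide +kernel
def st10 : List Step := [(0,[],[]),(24,[4986,4988,4990,4992,4994,4996,4998,5000],[1232]),(0,[],[]),(0,[],[]),(25,[1236,4652,4654,2105,851,271,269,5004,5006],[4976]),(0,[],[]),(0,[],[]),(0,[],[]),(0,[],[]),(0,[],[]),(0,[],[]),(0,[],[]),(26,[1232,5003,5010,5012,5014,5016,5018,5020,5022],[4976]),(0,[],[]),(0,[],[]),(0,[],[]),(0,[],[]),(0,[],[]),(0,[],[]),(27,[4986,5026,5028,5030,5032,5034,5036],[1236,4652]),(0,[],[]),(0,[],[]),(0,[],[]),(0,[],[]),(28,[1236,5040,5042,5044,5046],[1232,3113,4980,4982,4984,2170,2172,2716,3692,4727]),(0,[],[]),(0,[],[]),(0,[],[]),(0,[],[]),(0,[],[]),(0,[],[]),(0,[],[]),(0,[],[]),(0,[],[]),(0,[],[]),(0,[],[]),(0,[],[]),(29,[4986,4988,5050,5052,5054,5056,5058,5060,5062,5064,5066,5068,5070,5072],[751,1232,3113,3111,4147]),(18,[1235,4968],[1224]),(22,[1235,3113],[598,4611,4609]),(25,[238,576,875,4301,261,139,264,4760,47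62,4764,4766],[]),(1,[5080],[]),(1,[5083,4768],[]),(1,[4338,5084],[]),(1,[5083,4767],[]),(1,[861,5088],[]),(1,[5087],[]),(1,[5093,4770],[]),(1,[4337,5094],[]),(1,[5091],[]),(1,[5099,4765],[]),(1,[2095,5100],[]),(1,[5097],[]),(1,[5105,4772],[]),(1,[5103],[]),(1,[5109,4763],[]),(9,[3692],[1772,4817]),(12,[2717],[1772,4743]),(21,[],[1772,1229,4986]),(7,[3148,4673],[2383,4660]),(1,[5118],[]),(1,[5121,4672],[]),(1,[5121,4671],[]),(11,[2437],[2383,4662]),(15,[3148,4727],[2437]),(9,[2271],[1774,5040]),(21,[483],[1774,4973]),(15,[4893],[268,1459]),(16,[1459,4959],[1469]),(21,[4634],[840,985]),(8,[4638],[2783,3100]),(18,[4638],[1207,4638]),(22,[4638],[296,2081,297,4638]),(19,[2094],[347,4664]),(22,[2094,5110],[2093,2094,5110]),(11,[5110],[1850,4655]),(26,[5146,4666],[4538,1457,1474,2020,3081,3078,4122,2801]),(19,[4659],[338,2465]),(27,[1142,1110,261,59,89,272,4634],[473,471]),(11,[3185,4648],[3172]),(17,[849,1767,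5137],[1767,5137]),(27,[4157,4053,4054,1227,3695,3257,4619,4617],[368,4584]),(1,[5162],[]),(1,[5165,4615],[]),(1,[4587,5166],[]),(1,[5165,4616],[]),(1,[5169],[]),(1,[5173,4613],[]),(21,[4651],[4522,4525]),(22,[2104,4655],[2103,2104,4655]),(11,[4743],[1839,4743]),(21,[],[1773,670,4744]),(15,[4975,4815],[3113]),(16,[4973,4741],[5040]),(18,[3100],[1353,4569]),(27,[1479,727,216,1294,1480,1482],[1470,1785,4696]),(26,[1295,34,1805,1795,1817,1456,4959],[2885,3809,3803]),(27,[1499,3081,2021,1475,1470,1491],[1480,2935,4860]),(22,[2899,2010,4569,4567],[2010,4569]),(1,[5197],[]),(1,[5199,5189],[]),(1,[5199,4567],[]),(1,[5199,4568],[]),(22,[4438,4466],[1348,4583,4581]),(8,[4583],[2907,4583]),(19,[4583],[1350,5205]),(8,[5205],[2789,5205]),(18,[1402,2407],[4695]),(22,[1402,1404,4913,4911],[2052,2328]),(1,[5216],[]),(1,[5219,4910],[]),(1,[5219,4909],[]),(11,[1404,4929],[2407]),(27,[2062,140,2391,2997,2389,4860],[1404,14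06,1536,4905]),(1,[5227],[]),(1,[5229,4914],[]),(1,[4860,5230],[]),(1,[5229,4903],[]),(1,[5229,4904],[]),(1,[5233],[]),(1,[5239,4916],[]),(25,[1405,2062,43,196,1500,2328,5220],[1784,2200,2871]),(25,[1471,1479,1916,1911,2191,2725,2723],[2016,2328,5220]),(25,[1831],[2020,1607,1497,2928,2320,2439,3062,4846,4677]),(21,[5190],[2023,2025]),(26,[2744,2930,2128,1901,2191,2175,2173],[1494,4115,4843]),(9,[4960],[4103,4960]),(16,[4100,2144],[4960]),(24,[2021,1831,5246,4676,4680],[3081,2021,1831,5246,4676]),(1,[5256],[]),(1,[5259,4682],[]),(1,[4858,5260],[]),(1,[5259,4681],[]),(1,[5262],[]),(1,[5267,4858],[]),(1,[5267,4857],[]),(12,[4120],[4172,4964]),(25,[2121,3073,3069,2333,3018,2205,3024],[3071,2333,4906]),(15,[3887,4964],[2982]),(21,[2146],[4105,5254]),(16,[3008,4808],[4985]),(6,[2766,5130,5187],[]),(12,[2171],[5283,4739]),(21,[2225],[5283,5186]),(21,[],[5114,4972,4652]),(7,[5277],[3037,5277]),(19,[2936,4894],[22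66]),(12,[2379],[5130,5042]),(25,[5220,5242,2871,2201,1785,4913,5221,2330,4906],[5222]),(21,[4900],[3055,3006]),(6,[3009,5284],[5294]),(9,[4808],[5294,5044]),(21,[2377],[5294,5301]),(11,[2388,2994],[5240]),(18,[4846,5269],[2994]),(26,[2997,3063,2322,746,4979,5025,5023],[2390,2226,2380]),(26,[],[2397,2995,2997,2390,141,136,4728,4793,4791,4789,4787]),(1,[5313],[]),(1,[5315,4785],[]),(1,[2399,5316],[]),(1,[5315,4786],[]),(1,[5319],[]),(1,[5323,4783],[]),(19,[],[2404,5214,4693]),(6,[5129],[3698,5185]),(8,[3150],[3698,5078]),(9,[4732],[3698,4980]),(16,[5129,5049],[4732]),(21,[2435],[3698,5185]),(27,[2598,2860,3091,4497,2821,527,4550,3257,4619],[]),(16,[5185,4813],[4980]),(21,[3111],[3699,5129]),(21,[],[5112,4974,5003]),(21,[4967],[4108,3028]),(21,[4619],[4057,1887]),(21,[],[3691,1883,5175]),(7,[4592],[3687,4570]),(6,[4570],[4227,4570]),(16,[4570],[3685,4552]),(6,[4552],[4229,4552]),(21,[],[4523,3093,4584]),(21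,[],[5359,4553,4572]),(21,[],[5355,4571,4558]),(14,[5265,5269,5270],[5269,5270]),(21,[4725],[5328,5184,3710]),(1,[5368],[]),(1,[5371,4723],[]),(1,[4085,5372],[]),(1,[5371,4724],[]),(1,[5375],[]),(1,[5379,4721],[]),(12,[4734],[5332,4982]),(15,[5335,5047],[4734]),(21,[],[5115,2306,4760]),(19,[5149,4807],[4807]),(21,[],[5113,3149,3310]),(25,[4988,4990,4992],[4987,230,239,860,2093,2094,4538,1765]),(1,[5392],[]),(1,[5395,4994],[]),(1,[4958,5396],[]),(1,[5395,4993],[]),(1,[5134,5400],[]),(1,[5399],[]),(1,[5405,4996],[]),(1,[5403],[]),(1,[5409,4991],[]),(15,[],[5407,5136,1579]),(26,[],[5015,5013,5011,5002,1233,751,4976,5025,5023,5021,5019]),(1,[5415],[]),(1,[5417,5017],[]),(1,[5417,5018],[]),(21,[],[5131,2767,5250]),(24,[5287],[5041,4652,4654,4327,269,4899,4955,4953]),(25,[5110,5387,4742,1231,4731,4777,4775],[4538,1765,5135,5410]),(1,[5427],[]),(1,[5429,5050],[]),(1,[5429,4989],[]),(1,[4775,5432],[]),(1,[5429,54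11],[]),(1,[5435],[]),(1,[5439,5026],[]),(1,[5439,5117],[]),(1,[5439,4987],[]),(27,[2780,2799,2582,3323],[524,4548,1266,5349,5171]),(24,[5175],[1266,5349,5338,2598,2600,2602,2769,2858,2584]),(1,[5448],[]),(1,[5451,4587],[]),(1,[5451,5351],[]),(1,[5451,5174],[]),(26,[2061,2062,140,2226,2228],[2064,746,3692,5344,5010,5012]),(1,[5459],[]),(1,[5461,5013],[]),(1,[5461,5014],[]),(26,[4960,5279,2148,743,4760,5150,5039,5037,5035],[2928,2960]),(1,[5466],[]),(1,[5469,5034],[]),(1,[5469,5033],[]),(1,[3031,5472],[]),(1,[5475],[]),(1,[5477,5031],[]),(1,[5124,5478],[]),(1,[5481],[]),(1,[5483,5029],[]),(23,[4065,4072,5075,5073],[4172,3886,2982,3038,5424]),(21,[2169],[5284,5300]),(27,[2218,3038,2224,2172,2716,3692,5344,5010],[2756,2228]),(1,[5490],[]),(1,[5493,5463],[]),(1,[5493,5011],[]),(11,[2230],[5495,2230])]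
theorem ok10 : data.stepsOK st10 2500 = true := by decide +kernel
def st11 : List Step := [(26,[5496,5345,3693,747,2065,2407,2405],[2229,2227,141,2063]),(1,[5500],[]),(1,[5503,2913,5502],[]),(1,[2406,5504],[]),(1,[5503,5326],[]),(1,[1402,5508],[]),(1,[5503,2403],[]),(1,[2065,5512],[]),(1,[5506],[]),(1,[5517,2406],[]),(1,[5517,5225],[]),(1,[1405,5520],[]),(1,[5517,5214],[]),(1,[1402,5524],[]),(1,[5511],[]),(1,[5529,4691],[]),(1,[1985,5530],[]),(1,[5515],[]),(1,[5535,2401],[]),(1,[2322,5536],[]),(1,[5523],[]),(1,[5541,4928],[]),(1,[5541,4927],[]),(1,[4697,5544],[]),(1,[5527],[]),(1,[5549,4694],[]),(1,[5549,4848],[]),(1,[1983,5552],[]),(1,[5533],[]),(1,[5557,4689],[]),(1,[141,5558],[]),(1,[5539],[]),(1,[5563,2399],[]),(1,[2751,5564],[]),(1,[5563,5324],[]),(1,[3063,5568],[]),(1,[5547],[]),(1,[5573,4925],[]),(1,[5249,5574],[]),(1,[5555],[]),(1,[5579,4850],[]),(1,[747,5580],[]),(1,[5579,4930],[]),(1,[2296,5584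],[]),(1,[5561],[]),(1,[5589,4687],[]),(1,[2227,5590],[]),(1,[5566],[]),(1,[5595,2751],[]),(1,[5595,5125],[]),(1,[5321,5598],[]),(1,[5595,3031],[]),(1,[5595,2467],[]),(1,[5571],[]),(1,[5607,4781],[]),(1,[2995,5608],[]),(1,[5577],[]),(1,[5613,4923],[]),(1,[1530,5614],[]),(1,[5583],[]),(1,[5619,4852],[]),(1,[3693,5620],[]),(1,[5587],[]),(1,[5625,4932],[]),(1,[2295,5626],[]),(1,[5593],[]),(1,[5631,4685],[]),(1,[5600],[]),(1,[5635,5321],[]),(1,[5635,4788],[]),(1,[5611],[]),(1,[5641,4779],[]),(1,[5617],[]),(1,[5645,4921],[]),(1,[5623],[]),(1,[5649,4854],[]),(1,[5629],[]),(1,[5653,4934],[]),(14,[2232,2234],[5499,2232,2234]),(7,[],[2265,2277,5654]),(21,[5311,5021],[4656]),(14,[2997,2994,5642],[2994,5642]),(19,[5309,5270],[5642,3312]),(1,[5664],[]),(1,[5667,5367,5666],[]),(1,[5667,5271],[]),(1,[5667,5651],[]),(16,[],[2430,4221,5380]),(23,[2430,4217,4175,4216,2431,2429],[4491,5674,4719]),(16,[],[5155,5661,5421]),(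17,[5678],[2464,1149,2465,5678]),(7,[],[2873,1895,5646]),(15,[5682],[2474,1891]),(24,[2759,2756,2228,2230,2232],[4843,5423,5042,5489]),(25,[],[3231,2464,340,1152,2701,2985,2131,2013,5685,4919,5307]),(1,[5688],[]),(1,[5691,3232],[]),(1,[5308,5692],[]),(1,[5691,3231],[]),(1,[5694],[]),(1,[5699,5268],[]),(1,[5699,5671],[]),(1,[5699,5308],[]),(1,[5699,5633],[]),(11,[3234],[5700,4677]),(24,[5706,2757,2218,2983,2976,3302,3711,3112],[5702]),(11,[4759],[5663,4759]),(11,[3314],[5669,3314]),(21,[3317],[4063,5413]),(6,[5661],[4657,4660]),(21,[],[4657,4660,5638]),(9,[5636],[5719,5421]),(21,[5484],[5719,5660]),(26,[5265,4845,141,136,4744],[4678,5597,5637,5484,5441]),(14,[4697,5543,4696,4698],[4698]),(9,[5677,4493,5676],[]),(15,[],[4718,5675,2429]),(21,[4717],[5731,5732]),(18,[4777,5727],[4793]),(26,[],[4730,1839,4817,5390,5643,2995,2390,2226,2380,5311,5022]),(1,[5739],[]),(1,[5741,5024],[]),(1,[4792,5742],[]),(1,[5741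,5023],[]),(1,[5745],[]),(1,[5749,5009],[]),(1,[5736,5750],[]),(1,[5749,4977],[]),(1,[5749,4978],[]),(1,[5753],[]),(1,[5759,5007],[]),(1,[4747,5760],[]),(1,[5763],[]),(1,[5765,5005],[]),(11,[4746],[5726,4775]),(19,[5736,4791],[4794]),(14,[4818,4820],[5768,5430,5052]),(21,[4749,5766,4893],[]),(12,[4751,5775,5134],[]),(20,[],[5777,1457,1455,1456,5776]),(9,[4753,5777,4959],[]),(12,[4754],[5781,5406]),(21,[],[5781,5136,3104]),(6,[],[5782,5412,4062]),(15,[5786,3318],[4755]),(21,[4756],[5782,5412]),(19,[4776,5746],[5440]),(6,[4892,1844],[5774]),(20,[4891,1779,4890,5774],[5774]),(18,[4912,5543,4913],[]),(8,[5161,5780],[5780]),(21,[4998],[5783,5786]),(26,[3692,5673,5703,5700,4845,2226,2380],[5443,5727,4794]),(6,[1459,5776],[4331]),(21,[4326],[4331,5807]),(17,[5807],[4338,611,4339,5807]),(11,[2052],[5551,2052]),(21,[],[5776,5806,4340]),(21,[2137],[3702,5788]),(14,[1535,2408],[5813,1535,2408]),(18,[2328],[5813,2328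]),(21,[1577],[4062,5787]),(11,[],[2166,5687,2234]),(21,[5707],[2462,5678]),(21,[2427],[4493,5733]),(24,[3158,3319,5803,5000,5497,2230],[3802,3708,2475]),(26,[5702,5711,1233,751,5445,5727,4794,4796,4798],[5826,5419]),(1,[5833],[]),(1,[5835,5723],[]),(1,[5835,5419,5834],[]),(1,[5835,5420],[]),(1,[4798,5840],[]),(1,[5835,5681,5834],[]),(1,[5835,5679],[]),(1,[5835,5827],[]),(1,[5835,5465],[]),(1,[5843],[]),(1,[5853,5718],[]),(1,[5853,5660],[]),(1,[5853,5020],[]),(11,[4800],[5839,4800]),(12,[4800],[5836,5602]),(15,[5846,3186],[4800]),(27,[5848,5702,5711,1233,1236,5040,5422,4842],[4800]),(9,[4802],[5862,5470]),(21,[],[5862,3029,2218]),(0,[],[]),(22,[669,2717,5872],[2717,5872]),(0,[],[]),(24,[5757,5876],[3692,5673,3314,3316,3318,4335,4336]),(0,[],[]),(0,[],[]),(0,[],[]),(0,[],[]),(0,[],[]),(0,[],[]),(0,[],[]),(25,[2717,5880,5882,5884,5886,5888,5890,5892],[5443,4776]),(0,[],[]),(0,[],[]),(27,[5757,4791,5721,5154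,3186,5896,5898],[2717,5880]),(0,[],[]),(0,[],[]),(0,[],[]),(0,[],[]),(0,[],[]),(0,[],[]),(0,[],[]),(0,[],[]),(0,[],[]),(0,[],[]),(0,[],[]),(0,[],[]),(29,[5757,5876,5902,5904,5906,5908,5910,5912,5914,5916,5918,5920,5922,5924],[747,2323,2321,2917,2338]),(0,[],[]),(20,[2383,4656,5928],[1598,4968]),(0,[],[]),(21,[5932],[1598,4975]),(0,[],[]),(0,[],[]),(0,[],[]),(0,[],[]),(0,[],[]),(0,[],[]),(0,[],[]),(0,[],[]),(25,[2437,5936,5938,5940,5942,5944,5946,5948,5950],[5932]),(0,[],[]),(0,[],[]),(0,[],[]),(0,[],[]),(0,[],[]),(0,[],[]),(26,[257,4744,4794,5954,5956,5958,5960,5962,5964],[5932]),(0,[],[]),(0,[],[]),(0,[],[]),(27,[3310,5643,2396,5637,5968,5970,5972],[2437,5936]),(0,[],[]),(0,[],[]),(0,[],[]),(0,[],[]),(0,[],[]),(0,[],[]),(0,[],[]),(0,[],[]),(0,[],[]),(0,[],[]),(0,[],[]),(29,[3310,4759,5976,5978,5980,5982,5984,5986,5988,5990,5992,5994,5996],[2383,2381,2757,2758,4114,4960])]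
theorem ok11 : data.stepsOK st11 2750 = true := by decide +kernel
def st12 : List Step := [(0,[],[]),(0,[],[]),(0,[],[]),(25,[875,261,111,271,6000,6002,6004],[577,231,1236]),(0,[],[]),(17,[2307,5872,6008],[266,4893]),(0,[],[]),(0,[],[]),(0,[],[]),(0,[],[]),(24,[4760,5111,306,4336,6012,6014,6016,6018],[2271]),(0,[],[]),(0,[],[]),(0,[],[]),(0,[],[]),(0,[],[]),(0,[],[]),(25,[265,4744,4746,6022,6024,6026,6028,6030,6032],[483]),(0,[],[]),(0,[],[]),(0,[],[]),(0,[],[]),(0,[],[]),(0,[],[]),(0,[],[]),(26,[2271,6021,6036,6038,6040,6042,6044,6046,6048],[483]),(0,[],[]),(0,[],[]),(0,[],[]),(0,[],[]),(0,[],[]),(0,[],[]),(0,[],[]),(0,[],[]),(0,[],[]),(0,[],[]),(0,[],[]),(0,[],[]),(0,[],[]),(29,[4760,5111,5146,6052,6054,6056,6058,6060,6062,6064,6066,6068,6070,6072,6074,6076],[742,2149,2312]),(9,[4899],[1844,6012]),(0,[],[]),(16,[4893,6082],[4899]),(0,[],[]),(21,[6086],[1844,5794]),(0,[],[]),(0,[],[]),(23,[4899,4955,609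0,6092],[1844,5794,4750,4752,4754]),(0,[],[]),(0,[],[]),(24,[5767,4747,5183,4743,4741,4739,6096,6098],[4899]),(0,[],[]),(0,[],[]),(0,[],[]),(0,[],[]),(0,[],[]),(0,[],[]),(0,[],[]),(25,[268,6000,6102,6104,6106,6108,6110,6112,6114],[6086]),(0,[],[]),(0,[],[]),(0,[],[]),(0,[],[]),(0,[],[]),(0,[],[]),(0,[],[]),(26,[4899,6101,6118,6120,6122,6124,6126,6128,6130],[6086]),(0,[],[]),(0,[],[]),(0,[],[]),(0,[],[]),(0,[],[]),(27,[5767,4818,6134,6136,6138,6140,6142],[268,6000]),(0,[],[]),(0,[],[]),(0,[],[]),(0,[],[]),(28,[268,1469,1579,6146,6148,6150,6152],[4899,4955,6090,6092,6094,4755,4753,4751]),(0,[],[]),(0,[],[]),(0,[],[]),(0,[],[]),(0,[],[]),(0,[],[]),(0,[],[]),(0,[],[]),(0,[],[]),(0,[],[]),(29,[5767,4747,4794,5954,5956,6156,6158,6160,6162,6164,6166,6168,6170,6172,6174],[729,1536,1538,2324]),(24,[6000,6102],[1469,3104,4072,3110,3112,1233,1236,6007]),(1,[6178],[]),(1,[6181,6103],[]),(1,[6004,6182],[]),(1,[6181,61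04],[]),(1,[6184],[]),(1,[6189,6004],[]),(1,[6189,6003],[]),(0,[],[]),(26,[1469,3104,4064,3079,2021,1744,6194],[4326,1851,5146]),(0,[],[]),(0,[],[]),(0,[],[]),(0,[],[]),(0,[],[]),(0,[],[]),(0,[],[]),(0,[],[]),(0,[],[]),(0,[],[]),(0,[],[]),(0,[],[]),(29,[6000,6190,6198,6200,6202,6204,6206,6208,6210,6212,6214,6216,6218,6220],[685,1294,1480,4674,5709]),(0,[],[]),(8,[4633,6224],[840]),(0,[],[]),(0,[],[]),(0,[],[]),(22,[4633,6228,6230,6232],[274]),(0,[],[]),(0,[],[]),(0,[],[]),(0,[],[]),(0,[],[]),(0,[],[]),(25,[274,1000,453,6236,6238,6240,6242,6244,6246],[4634]),(0,[],[]),(8,[6235,6250],[986]),(0,[],[]),(19,[6235,6254],[276]),(0,[],[]),(0,[],[]),(8,[6257],[990,4598]),(0,[],[]),(17,[993,6257,6264],[6257,6264]),(0,[],[]),(22,[6257,6268],[278,3161,3319]),(0,[],[]),(0,[],[]),(0,[],[]),(25,[278,2711,1204,3309,6272,6274,6276],[974,4638,5145]),(0,[],[]),(18,[3161,6280],[642]),(25,[279,1849,1244,2689,56,259,2437,5936,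5938,5940,5942],[]),(1,[6284],[]),(1,[6287,5944],[]),(1,[3160,6288],[]),(1,[6287,5943],[]),(1,[1213,6292],[]),(1,[6291],[]),(1,[6297,5946],[]),(1,[3318,6298],[]),(1,[6295],[]),(1,[6303,5941],[]),(1,[3157,6304],[]),(1,[6301],[]),(1,[6309,5948],[]),(1,[5802,6310],[]),(1,[6307],[]),(1,[6315,5939],[]),(1,[6313],[]),(1,[6319,5950],[]),(1,[5001,6320],[]),(1,[6323],[]),(1,[6325,5952],[]),(0,[],[]),(17,[2785,4638,6328],[4638,6328]),(0,[],[]),(19,[4638,6332],[2539]),(0,[],[]),(0,[],[]),(0,[],[]),(0,[],[]),(25,[296,855,598,4611,6336,6338,6340,6342],[996,4598]),(0,[],[]),(0,[],[]),(0,[],[]),(6,[6348,6350],[6346]),(0,[],[]),(7,[6348,6354],[1217]),(0,[],[]),(8,[2094,6358],[6346]),(0,[],[]),(9,[347,6362],[6346]),(0,[],[]),(16,[6348,6366],[347]),(0,[],[]),(0,[],[]),(0,[],[]),(17,[6348,6370,6372,6374],[2094]),(0,[],[]),(0,[],[]),(0,[],[]),(20,[1217,6378,6380,6382],[6346]),(21,[301,850,6357],[6346]),(1,[6386],[]),(1,[6389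,6355],[]),(1,[6384,6390],[]),(1,[6389,6356],[]),(1,[6352,6394],[]),(1,[6392],[]),(1,[6399,6383],[]),(1,[6351,6400],[]),(1,[6396],[]),(1,[6405,6351],[]),(1,[6379,6406],[]),(1,[6403,6404],[]),(1,[6411,6381],[]),(1,[1217,6412],[]),(1,[6408],[]),(1,[6417,6379],[]),(1,[6417,6415],[]),(1,[6421,6418],[]),(1,[6347,6422],[]),(1,[6421,6366],[]),(1,[346,6426],[]),(1,[6421,6370],[]),(1,[2095,6430],[]),(1,[6424],[]),(1,[6435,6365],[]),(1,[2110,6436],[]),(1,[6435,6361],[]),(1,[2105,6440],[]),(1,[6429],[]),(1,[6445,6368],[]),(1,[6433],[]),(1,[6449,6372],[]),(1,[6376,6450],[]),(1,[6439],[]),(1,[6455,6363],[]),(1,[6443],[]),(1,[6459,6359],[]),(1,[6452],[]),(1,[6463,6376],[]),(25,[2093,861,238,231,5445,4776,5895],[301,271,269,6086]),(1,[6467],[]),(1,[6469,6133],[]),(1,[6469,6117],[]),(1,[6469,6087],[]),(1,[6469,6088],[]),(1,[5892,6476],[]),(1,[6478],[]),(1,[6481,5891],[]),(1,[4751,6482],[]),(1,[6481,5892],[]),(1,[6485],[]),(1,[6489,5889],[]),(1,[5810,6490],[]),(1,[6493],[]),(1,[6495,5887],[]),(0,[],[])]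
theorem ok12 : data.stepsOK st12 3000 = true := by decide +kernel
def st13 : List Step := [(6,[6465,6498],[6461]),(7,[6465],[1850,6501]),(0,[],[]),(9,[5146,6504],[6461]),(12,[5110],[6461,4655]),(0,[],[]),(14,[5146,6052,6510],[1850,6507]),(0,[],[]),(15,[6465,6514],[5110]),(0,[],[]),(16,[6465,6518],[5146]),(21,[4538,5814],[6461,6501]),(1,[6523],[]),(1,[6525,6499],[]),(1,[6525,6503],[]),(1,[6525,6500],[]),(0,[],[]),(0,[],[]),(0,[],[]),(0,[],[]),(0,[],[]),(23,[5146,6532,6534,6536,6538,6540],[6461,6531,4254]),(0,[],[]),(0,[],[]),(24,[306,4336,5106,4774,5440,6544,6546],[5146,4666]),(0,[],[]),(27,[306,4334,4191,4079,4964,6550],[5110,5387,4741]),(0,[],[]),(0,[],[]),(0,[],[]),(0,[],[]),(0,[],[]),(28,[5110,4807,6554,6556,6558,6560,6562],[5146,6532,6534,6536,6538,6540,6542,4255]),(0,[],[]),(0,[],[]),(0,[],[]),(0,[],[]),(0,[],[]),(0,[],[]),(0,[],[]),(0,[],[]),(0,[],[]),(0,[],[]),(0,[],[]),(0,[],[]),(0,[],[]),(0,[],[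]),(29,[306,4336,6012,6566,6568,6570,6572,6574,6576,6578,6580,6582,6584,6586,6588,6590,6592],[1850,6507]),(14,[4334,6280],[4333,4334,6280]),(11,[1014,6258],[1008]),(18,[4659,5928],[1843]),(25,[1154,1093,1113,4537,1116,2469,4662],[344,4664,6532]),(6,[6447,6457],[6457]),(7,[6447,3172],[3172]),(8,[4664,6504],[6457]),(12,[3185],[6457,468]),(17,[6447,4664,6521],[4664,6521]),(18,[4664,6052],[3172]),(22,[1767,1579],[350,4598,6345]),(19,[4598],[352,6253]),(26,[352,1158,451,6258,6260],[1242,1353,1351,4422,83,4380]),(1,[6620],[]),(1,[6623,6261],[]),(19,[6227],[356,4611]),(12,[6599],[4154,4350]),(25,[385,2556,599,1235,5003,6326],[1769,1767,1579,1577]),(7,[6605,2108],[2108]),(18,[6609,6513],[2108]),(9,[5157],[6611,3324]),(9,[6565],[6526,6518]),(11,[4254,6051],[6528,6514]),(1,[6641],[]),(1,[6643,6515],[]),(1,[6643,6516],[]),(12,[4254],[6526,6645]),(15,[6530,4655],[4254]),(22,[4257,4254,6035,6033],[4254,6035]),(1,[6653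],[]),(1,[6655,6034],[]),(26,[6565],[4341,4333,4334,3159,3802,3808,2139,1744,6194]),(27,[5815,4959,5192,3802,4095,5927],[4254,482,2271,6021]),(1,[6661],[]),(1,[6663,6036],[]),(1,[5927,6664],[]),(1,[6663,6019],[]),(1,[5924,6668],[]),(1,[6663,6020],[]),(1,[6667],[]),(1,[6675,6038],[]),(1,[2338,6676],[]),(1,[6671],[]),(1,[6681,6017],[]),(1,[6679],[]),(1,[6685,6040],[]),(1,[2917,6686],[]),(1,[6689],[]),(1,[6691,6042],[]),(1,[2961,6692],[]),(1,[6695],[]),(1,[6697,6044],[]),(1,[5471,6698],[]),(1,[6701],[]),(1,[6703,6046],[]),(9,[6543],[6648,6049]),(16,[6651,5039],[6543]),(17,[6651,5179,6650,6657],[6657]),(25,[4743,5133,4255,4257,5815,1765,5135],[5182,5736,5876]),(19,[1238,6012],[5040]),(21,[6007],[1775,2307,5880]),(1,[6716],[]),(1,[6719,6198],[]),(1,[5900,6720],[]),(1,[6719,6191],[]),(1,[5883,6724],[]),(1,[6719,6186],[]),(1,[6719,6006],[]),(1,[6723],[]),(1,[6733,6200],[]),(1,[6727],[]),(1,[6737,6145],[]),(1,[67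37,6193,6736],[]),(1,[5885,6740],[]),(1,[6737,6001],[]),(1,[6742],[]),(1,[6747,5885],[]),(1,[6747,6497],[]),(14,[6012,6566],[1847,6012,6566]),(16,[5794,6155],[6012]),(24,[5106,4774,5442,2717,2173,2171,2169,5687],[6012]),(21,[5808,6751],[6460,6465]),(1,[6759],[]),(1,[6761,6529],[]),(1,[6761,6518],[]),(1,[6739,6764],[]),(1,[6761,6645],[]),(1,[5882,6768],[]),(1,[6761,6464],[]),(1,[6767],[]),(1,[6775,6639],[]),(1,[6775,6613,6774],[]),(1,[6775,6520],[]),(1,[6771],[]),(1,[6783,6649],[]),(1,[6783,6050],[]),(1,[6783,6049],[]),(1,[5900,6788],[]),(1,[6783,6646],[]),(1,[6791],[]),(1,[6795,6707],[]),(1,[6795,6705],[]),(26,[6507],[5808,5779,4752,5784,4064,3079,1498,1462,1464]),(25,[2488,2851,1015,4311,1020,4659],[2113,6609,6595,6593]),(19,[6601],[1859,6601]),(14,[1474,1744,6194],[1456,4959]),(26,[2129,2348,2318,2960,5347,5291,6550],[1311,743,2271]),(26,[4696,5191,1483,2872,5831,5499,2232],[1784,4890,6082]),(24,[4539,5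110,5387,4742,4817,4815],[4959,5192,6316]),(26,[4959,5192,3802,3808,2884,1462,1464],[5814,6763,6738]),(16,[1891,6194],[1464]),(18,[2200],[4890,6011]),(26,[1482,2069,1534,5813,2017,4890,6082],[4674,5709,6223]),(23,[4960,5999],[4103,4100,2891,2889,2890,2144,2327]),(26,[1530,5249,4697,5543,1406,728,4899,6101,6118,6120,6122],[]),(1,[6824],[]),(1,[6827,6124],[]),(1,[5647,6828],[]),(1,[6827,6123],[]),(1,[2387,6832],[]),(1,[6831],[]),(1,[6837,6126],[]),(1,[6835],[]),(1,[6841,6121],[]),(1,[5241,6842],[]),(1,[6845],[]),(1,[6847,6119],[]),(27,[5237,4861,2387,1530,1834,1541,2324,6823,5997],[1538]),(1,[6850],[]),(1,[6853,5995],[]),(1,[6853,5996],[]),(11,[1539,2358],[6854]),(11,[],[1574,6631,5967]),(12,[3302],[3876,6316]),(15,[5254,5999],[2327]),(27,[2147,2145,2916,2319,2317,2315,6079],[2312,5299]),(24,[5250,4841],[2172,5880,5882,6750,4751,6155,6153]),(24,[2176,737,1817,1470,1491,1489],[2294,4963,5999]),(9,[3038],[409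3,5927]),(16,[5277,6550],[3038]),(24,[5871,4801,5848,3234,6223,6221,6219],[3038,2224,2171]),(1,[6876],[]),(1,[6879,6217],[]),(1,[6879,6218],[]),(8,[3043,6872],[6872]),(12,[5424],[6872,5925]),(21,[5286,5422],[6872]),(27,[4963,4961,1495,2744,2197,2748,4900,6867],[2357]),(6,[6865],[4107,6865]),(26,[5927],[4096,4111,5896,5898,5900,6786,5132,5181,4741]),(12,[4662],[4656,6802]),(15,[4660,5968],[4662]),(27,[5804,4795,5183,4817,4815,4813],[4662,6602,6534]),(27,[2396,5637,5638,4790,5876,5902],[5306,4918,6838,6128]),(1,[6903],[]),(1,[6905,6130],[]),(1,[5902,6906],[]),(1,[6905,6129],[]),(1,[6909],[]),(1,[6913,6471],[]),(6,[4197,6862],[4495]),(27,[2434,4732],[4193,4956,4958,4539,5146,6532,6534]),(7,[5129],[5126,6899]),(26,[5153],[2987,2975,2976,5816,4753,5779,6751,6762,6565]),(9,[4843],[5272,6550]),(21,[2583,2781,6633],[]),(24,[2859,2768,4044,4040,923,6599],[3323,4134,3966]),(12,[2585,6927,524],[]),(7,[6917],[4147,69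17]),(27,[3158,4335,4340,6565,6563,6561],[6316,6813,4813]),(9,[3706,6926,3323],[]),(16,[5864,4802],[5896]),(26,[5896],[4967,5291,6550,6552,4740,5181,5386,5150,5039]),(25,[3642,5177,5158,6615,6054],[4361,4543,4350,4377,4374,3680]),(1,[6942],[]),(1,[6945,6056],[]),(1,[6945,6055],[]),(7,[6328],[5143,6328]),(15,[6328],[5145,6328]),(9,[5039],[6509,4807]),(11,[6802,6591],[5928]),(24,[6922,6563],[5152,4123,4120,2759,2756,2380,4662,4889]),(1,[6958],[]),(1,[6961,6561],[]),(1,[6961,6562],[]),(22,[4777,4775],[5895,6472,6115]),(21,[],[5332,5341,6935]),(21,[6096],[5285,3008]),(9,[6155],[5775,6082]),(14,[5976,5978],[5713,5976,5978]),(16,[6793,5901],[4807]),(26,[4802],[5870,3037,3038,5286,5041,1841,6731,6786,6543]),(15,[],[4840,6888,5925]),(24,[6712,5877,5754,1236,5040,5042],[6082,6820,6221]),(12,[4955],[6080,6014]),(21,[],[6886,6981,6868]),(21,[4953,6986],[6984]),(8,[6728],[6784,6657]),(18,[6728],[6786,6657]),(22,[6728],[5882,6749,5883,6728]),(21,[],[6081,6085,6820]),(21,[6683,5923],[6985])]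
theorem ok13 : data.stepsOK st13 3250 = true := by decide +kernel
def st14 : List Step := [(11,[6947,3935,3417],[]),(15,[6084,4955,6999],[]),(24,[],[6849,4918,5684,2130,2982,3038,5424,6986,6152]),(21,[6142,6815,6817],[]),(6,[6988,6985,6999],[]),(21,[6869,4839],[7009,6998]),(1,[7011],[]),(1,[7013,6984],[]),(1,[7013,6090],[]),(1,[7013,4954],[]),(1,[7013,6999],[]),(1,[7013,4953],[]),(9,[6195],[7006,6141]),(21,[],[6505,6781,6143]),(27,[4340,6565,6658,6195,5685,6838],[4336,5106,5430]),(6,[1891,7024],[2690]),(21,[3709],[2690,7031]),(20,[1744,7024],[1889,1744,7024]),(8,[2013,7024],[7024]),(12,[5685],[7024,6139]),(20,[5646,7038],[2019,5646,7038]),(25,[2230],[2229,2440,755,1624,2083,3193,7032,7037,6139]),(21,[7032],[3855,3887]),(24,[7045,6139],[4078,4956,5406,5717,3315,5703,3234]),(7,[],[4836,7020,5921]),(11,[],[4836,7018,4897]),(16,[7048,5919],[4835]),(15,[],[5916,7052,4833]),(24,[7033,4095,2340,5603,5637,5968],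[6140,7027,6595]),(0,[],[]),(0,[],[]),(23,[4334,3319,7058,7060],[4330,1459,5135,6082,7003]),(0,[],[]),(0,[],[]),(28,[4336,6012,6014,7064,7066],[4334,3319,7058,7060,7062,7002,6083,5134,4959,5406]),(0,[],[]),(0,[],[]),(0,[],[]),(0,[],[]),(0,[],[]),(0,[],[]),(0,[],[]),(0,[],[]),(0,[],[]),(0,[],[]),(0,[],[]),(29,[4340,4254,6543,7070,7072,7074,7076,7078,7080,7082,7084,7086,7088,7090],[4333,4334,3319,3317,5715]),(0,[],[]),(0,[],[]),(22,[2465,3186,7096],[340,2487]),(0,[],[]),(18,[4669,7100],[2580]),(0,[],[]),(0,[],[]),(22,[4664,6532,7104,7106],[3185]),(0,[],[]),(0,[],[]),(25,[3185,3183,472,4659,5725,5793,7110,7112],[1757,1615]),(0,[],[]),(0,[],[]),(0,[],[]),(25,[351,1768,385,4591,7116,7118,7120],[1242,3100,3103]),(0,[],[]),(0,[],[]),(0,[],[]),(0,[],[]),(0,[],[]),(0,[],[]),(0,[],[]),(25,[354,5139,4636,7126,7128,7130,7132,7134,7136],[1156]),(0,[],[]),(0,[],[]),(0,[],[]),(0,[],[]),(25,[355,1158,452,7139,7140,7142,7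144,7146],[3712,7126]),(0,[],[]),(0,[],[]),(0,[],[]),(0,[],[]),(25,[599,829,1245,3100,7150,7152,7154,7156],[2557,4591]),(0,[],[]),(22,[4541,6599,7160],[6599,7160]),(0,[],[]),(0,[],[]),(0,[],[]),(0,[],[]),(0,[],[]),(25,[6599,6625,4374,3680,7164,7166,7168,7170,7172],[4535]),(0,[],[]),(8,[7176],[4520,7175]),(0,[],[]),(17,[3095,7176,7180],[7176,7180]),(18,[7176],[2904,4438]),(19,[7176],[4471,7175]),(0,[],[]),(0,[],[]),(0,[],[]),(22,[7176,7188,7190,7192],[368]),(0,[],[]),(0,[],[]),(25,[368,4584,5447,7196,7198],[367,4541,6599,6928,3967]),(0,[],[]),(8,[7195,7202],[4522]),(0,[],[]),(19,[7195,7206],[370]),(0,[],[]),(0,[],[]),(0,[],[]),(0,[],[]),(0,[],[]),(0,[],[]),(25,[369,4157,4350,7210,7212,7214,7216,7218,7220],[4651]),(0,[],[]),(18,[7209,7224],[372]),(8,[7227],[2839,6335]),(0,[],[]),(19,[7227],[2774,3100]),(0,[],[]),(0,[],[]),(22,[7227,7234,7236],[2776,6335]),(0,[],[]),(0,[],[]),(0,[],[]),(0,[],[]),(22,[7240,72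42,7244,7246],[376]),(19,[7249],[378,4629]),(0,[],[]),(0,[],[]),(0,[],[]),(0,[],[]),(0,[],[]),(0,[],[]),(25,[2616,802,1014,7094,7254,7256,7258,7260,7262],[2811]),(0,[],[]),(22,[4591,7159],[384,3156,6316]),(0,[],[]),(0,[],[]),(25,[2083,1625,754,2441,2228,7270,7272],[1209,2487,7099]),(0,[],[]),(22,[4537,1112,7276],[1112,7276]),(0,[],[]),(25,[1112,2796,2489,1615,6814,6779,7280],[1143,4659,6802]),(0,[],[]),(0,[],[]),(0,[],[]),(0,[],[]),(0,[],[]),(25,[4041,3704,2826,7103,7286,7288,7290,7292],[1853,5077]),(18,[7094],[6258,7160]),(19,[7094],[450,6236]),(0,[],[]),(19,[7139],[454,7276]),(0,[],[]),(18,[7276],[3171,7284]),(0,[],[]),(0,[],[]),(25,[468,2810,2616,2469,5804,5771,7310],[2114,4669,6549]),(8,[7265],[6611,7109]),(0,[],[]),(0,[],[]),(18,[7265,7318],[2116]),(19,[7265],[5157,6249]),(0,[],[]),(0,[],[]),(14,[6565,7324,7326],[6763,6738]),(0,[],[]),(24,[5815,5135,6712,5877,4791,7310,7330],[6565,6658]),(0,[],[]),(0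,[],[]),(0,[],[]),(0,[],[]),(0,[],[]),(0,[],[]),(0,[],[]),(0,[],[]),(0,[],[]),(0,[],[]),(0,[],[]),(0,[],[]),(0,[],[]),(29,[5815,5135,6082,7334,7336,7338,7340,7342,7344,7346,7348,7350,7352,7354,7356,7358],[6763,6738,7280]),(14,[6543,7070],[6787,5901,6734]),(0,[],[]),(0,[],[]),(0,[],[]),(0,[],[]),(24,[482,265,4744,4746,4818,7366,7368,7370],[6543]),(0,[],[]),(0,[],[]),(0,[],[]),(0,[],[]),(0,[],[]),(25,[4255,5815,5135,6011,7374,7376,7378,7380,7382],[5132]),(26,[6543,7373],[5132,5181,4741,6895,5926,2339,3060,2742]),(0,[],[]),(0,[],[]),(0,[],[]),(0,[],[]),(0,[],[]),(0,[],[]),(0,[],[]),(0,[],[]),(0,[],[]),(0,[],[]),(0,[],[]),(0,[],[]),(29,[482,265,256,2383,5804,7388,7390,7392,7394,7396,7398,7400,7402,7404,7406,7408,7410],[6787,5901]),(8,[6283],[2778,7103]),(0,[],[]),(17,[999,6283,7416],[6283,7416]),(0,[],[]),(0,[],[]),(0,[],[]),(25,[2768,4044,4040,4545,1262,6601,6957,7422,7424],[2858]),(8,[6635],[6926,7427]),(0,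[],[]),(0,[],[]),(0,[],[]),(0,[],[]),(0,[],[]),(25,[524,4548,1265,6601,7434,7436,7438],[523,6283,7420]),(0,[],[]),(8,[7321,7442],[6930]),(0,[],[]),(25,[3695,4551,525,6635],[4055,4547,3238,4184,2826,7103]),(22,[1231,4743,7385,7383],[4743,7385]),(1,[7451],[]),(1,[7453,7384],[]),(11,[3113],[4968,7295]),(24,[4327,269,5767,4747,4794,7388],[6507,6800,7115]),(25,[1264,5457,2585,7427],[1263,4545,4041,4045,2769,6283]),(12,[2475],[2690,7099]),(25,[2475,5831,2231,7270],[3709,3192,2083,1209,341,2465]),(11,[7115],[1466,1579]),(15,[6817,7333],[7115]),(27,[6814,6739,6750,4752,4754,6095],[7115,7459,7390]),(14,[1491,2150],[4890,6082,7334]),(20,[2872,7462],[1893,2872,7462]),(27,[1512,6194,6196,5147,5110,4807],[4120,2759,7387]),(25,[5685],[1513,2067,4120,5866,4801,5845,5850,7270,7272]),(27,[1576,6146],[6631,5933,257,4744,4794,7388,7390]),(7,[5413],[7467,7469]),(24,[2986,7099],[2976,2136,1579,5791,4758,5643,5306]),(16,[2923,4894],[7472]),(8,[5872],[5114,7455]),(9,[7387],[4109,5896]),(16,[3028,5470],[7387]),(18,[7270],[5495,7270]),(19,[7270],[5496,6326]),(27,[5347,6550,6808,2270,265,256,5932,7497],[5603])]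
theorem ok14 : data.stepsOK st14 3500 = true := by decide +kernel
def st15 : List Step := [(20,[5126,6896,6591],[3698,7456]),(24,[5936,6317,3158,3319,7058,7060],[4732,6918,6536]),(24,[5697,5306,4918,5684,6194,7333],[5155,5725,6544]),(14,[5153,7100],[2801,5153,7100]),(25,[2827,4185,3239,4547,4054,5077,7295],[2781,6635,7432]),(18,[7427],[3320,7196]),(19,[7427],[3323,7196]),(21,[7123],[5141,6328]),(7,[5788],[6280,7416]),(11,[3319],[6280,7420]),(8,[6615],[6937,7196]),(8,[3680],[4169,7201]),(19,[3680],[3965,7201]),(18,[7109],[4648,7223]),(19,[7109],[3324,7126]),(8,[3304],[6862,7269]),(6,[4592],[4588,7266]),(8,[7126],[6637,6249]),(11,[4466],[7185,7188]),(14,[4231,7185,7186],[7185,7186]),(26,[7524],[6948,6053,5147,4538,4959,6807,6659,7324,7326]),(8,[7210],[6629,7160]),(21,[],[7532,7267,7116]),(7,[6781,7329],[6052]),(26,[5147,306,4334,6280],[6197,6806,4958,5814,6565,7324]),(14,[4752,7516],[5779,4752,7516]),(24,[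5442,2717,5880,5882,6738,7280,7361],[5440,5485,5968]),(1,[7552],[]),(1,[7555,7359],[]),(1,[6920,7556],[]),(1,[7555,7360],[]),(1,[7559],[]),(1,[7563,7357],[]),(1,[5048,7564],[]),(1,[7567],[]),(1,[7569,7355],[]),(1,[5046,7570],[]),(1,[7573],[]),(1,[7575,7353],[]),(24,[6935,6559],[4812,5337,4193,4956,5406,7069,7067]),(15,[7048],[7050,7486]),(11,[],[4886,6964,7324]),(21,[7576],[5303,5280]),(24,[5922,5924,6894,4739,4737,4735,6968,6559],[7063]),(27,[6682,7064],[5924,6894,4740,5133,6543,6541,6539]),(14,[7497,7495,7496,5967,5965],[5967]),(1,[7591],[]),(1,[7593,5966],[]),(1,[7593,5965],[]),(1,[7593,6861],[]),(16,[7547,7327],[6510,7430]),(1,[7601],[]),(1,[7603,7431],[]),(17,[7547],[6614,6607,6615,7547]),(26,[6739,6750,4752,7516],[6815,1466,1468,4326,6507,6513]),(12,[6246,7535,7149],[]),(11,[6595],[6513,7432]),(12,[7432],[7428,7425]),(15,[7605,7583],[7432]),(11,[7106,7526,7221],[]),(21,[7165,6948,7547],[]),(25,[],[7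165,3681,4375,6624,6598,4541,4535,7175,7173,7171,7169]),(1,[7623],[]),(1,[7625,7168],[]),(1,[7625,7167],[]),(12,[7172,7179,7188],[]),(6,[],[7521,7547,7620]),(11,[7272],[7495,7272]),(21,[7287,7449,7605],[]),(25,[],[7287,7102,2827,3705,4040,4545,1853,5077,7295,7293,7291]),(1,[7639],[]),(1,[7641,7290],[]),(12,[7643,7637,7583],[]),(9,[7326,7620],[7636]),(20,[7325,6777,7329,7620],[7636]),(25,[7583],[7549,6282,2768,4498,3239,4547,3115,6601,6957]),(26,[7551,7608,6511,6053,4666,7100,7507,7286,7647,7648],[]),(6,[],[7615,7617,7644]),(11,[7626],[7648,7642]),(0,[],[]),(0,[],[]),(22,[7446,7658,7660],[2826,7103]),(0,[],[]),(0,[],[]),(14,[4817,7666],[1839,4817,7666]),(0,[],[]),(0,[],[]),(0,[],[]),(0,[],[]),(0,[],[]),(0,[],[]),(0,[],[]),(0,[],[]),(0,[],[]),(0,[],[]),(0,[],[]),(29,[4731,5895,7670,7672,7674,7676,7678,7680,7682,7684,7686,7688,7690],[1839,4817,4815,6812,6933,5975]),(7,[4975,7666],[4968,7664]),(1,[7694],[]),(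1,[7697,7667],[]),(1,[7697,7669,7696],[]),(0,[],[]),(0,[],[]),(26,[1233,5445,5440,7702,7704],[5710,5669,5703,5849,4799]),(0,[],[]),(0,[],[]),(0,[],[]),(27,[5003,5497,5851,4799,7708,7710,7712],[3113,3710]),(0,[],[]),(0,[],[]),(0,[],[]),(0,[],[]),(0,[],[]),(0,[],[]),(0,[],[]),(0,[],[]),(0,[],[]),(0,[],[]),(0,[],[]),(0,[],[]),(29,[5003,5001,7716,7718,7720,7722,7724,7726,7728,7730,7732,7734,7736,7738],[4968,4971,7295,7293,7657]),(0,[],[]),(14,[5040,7742],[1841,5040,7742]),(0,[],[]),(17,[4973,7455,7746],[1238,5794]),(0,[],[]),(0,[],[]),(0,[],[]),(25,[1237,5445,4775,6966,7750,7752,7754],[6731,6728,6995]),(0,[],[]),(0,[],[]),(0,[],[]),(0,[],[]),(0,[],[]),(0,[],[]),(0,[],[]),(0,[],[]),(0,[],[]),(29,[4652,4654,6507,6513,7448,7663,7758,7760,7762,7764,7766,7768,7770,7772,7774],[1841,5040,5042,6982]),(0,[],[]),(0,[],[]),(0,[],[]),(0,[],[]),(0,[],[]),(25,[4337,4340,4254,6657,7778,7780,7782,7784,7786],[5879]),(26,[6012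,6757,2233,5499,7042,7041,6137],[5879,6914,7670]),(0,[],[]),(0,[],[]),(0,[],[]),(0,[],[]),(0,[],[]),(0,[],[]),(0,[],[]),(0,[],[]),(0,[],[]),(0,[],[]),(29,[5106,4774,5440,7702,7704,7792,7794,7796,7798,7800,7802,7804,7806,7808,7810],[1847,6012,6014,6683]),(0,[],[]),(0,[],[]),(0,[],[]),(0,[],[]),(23,[6507,6595,7818,7820],[6460,6773,5883,5901,7413]),(0,[],[]),(0,[],[]),(0,[],[]),(28,[4655,5039,7824,7826,7828],[6507,6595,7818,7820,7822,7412,5900,5882,6738,7280]),(0,[],[]),(0,[],[]),(0,[],[]),(0,[],[]),(0,[],[]),(0,[],[]),(0,[],[]),(0,[],[]),(29,[4327,269,4899,4897,7832,7834,7836,7838,7840,7842,7844,7846],[1851,5146,6532,6603,5127,4732,4734]),(0,[],[]),(17,[1855,6601,7850],[6601,7850]),(0,[],[]),(0,[],[]),(0,[],[]),(0,[],[]),(0,[],[]),(0,[],[]),(0,[],[]),(0,[],[]),(0,[],[]),(0,[],[]),(0,[],[]),(0,[],[]),(0,[],[]),(29,[1479,1916,2129,7856,7858,7860,7862,7864,7866,7868,7870,7872,7874,7876,7878],[1456,4959,5406,49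98]),(0,[],[]),(0,[],[]),(0,[],[]),(0,[],[]),(0,[],[]),(0,[],[]),(0,[],[]),(0,[],[]),(0,[],[]),(0,[],[]),(0,[],[]),(0,[],[]),(29,[1499,1497,4960,7882,7884,7886,7888,7890,7892,7894,7896,7898,7900,7902,7904],[1462,1464,7115,7113]),(14,[2129,7856],[1901,2129,7856]),(0,[],[]),(24,[2191,2296,2065,1404,4696,7910],[2129,2348,2317]),(0,[],[]),(0,[],[]),(0,[],[]),(0,[],[]),(0,[],[]),(0,[],[]),(0,[],[]),(0,[],[]),(0,[],[]),(29,[2191,2296,2323,5597,7499,7272,7914,7916,7918,7920,7922,7924,7926,7928,7930],[1901,2129,2127,2932]),(0,[],[]),(17,[3099,4438,7934],[4438,7934]),(0,[],[]),(17,[2911,4583,7938],[4583,7938]),(0,[],[]),(0,[],[]),(0,[],[]),(25,[1349,2901,2010,5205,7942,7944,7946],[4422,3389,3387]),(0,[],[]),(17,[2867,5205,7950],[5205,7950]),(0,[],[]),(0,[],[]),(0,[],[]),(25,[2011,1346,1348,4583,7954,7956,7958],[4404,3521,3519]),(0,[],[]),(0,[],[]),(0,[],[]),(6,[7964,7966],[7962]),(0,[],[]),(8,[1402,7970],[7962]),(0,[],[]),(12,[2052,7974],[7962]),(0,[],[]),(15,[7964,7978],[2052]),(0,[],[]),(0,[],[]),(0,[],[]),(17,[7964,7982,7984,7986],[1402]),(21,[1984,2063,7989],[7962]),(1,[7990],[]),(1,[7993,7987],[]),(1,[7972,7994],[]),(1,[7993,7988],[])]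
theorem ok15 : data.stepsOK st15 3750 = true := by decide +kernel
def st16 : List Step := [(1,[7968,7998],[]),(1,[7997],[]),(1,[8003,7985],[]),(1,[8000],[]),(1,[8007,7967],[]),(1,[7971,8008],[]),(1,[8010],[]),(1,[8013,7971],[]),(1,[8013,7972],[]),(1,[7983,8016],[]),(1,[8013,8004],[]),(1,[7964,8020],[]),(1,[8018],[]),(1,[8025,7983],[]),(1,[8025,8023],[]),(1,[8029,7963],[]),(1,[8029,7977],[]),(1,[2053,8032],[]),(1,[8029,8026],[]),(1,[1403,8036],[]),(1,[8035],[]),(1,[8041,7975],[]),(1,[8039],[]),(1,[8045,8014],[]),(1,[8045,7978],[]),(1,[1405,8048],[]),(1,[8045,7965],[]),(1,[8051],[]),(1,[8055,7980],[]),(23,[2051,2052,1535,2192],[8031,8053,1404,4696,7910]),(0,[],[]),(27,[1982,2323,4679,5265,4677,8060],[2052,2017,1491]),(12,[1404],[8047,1404]),(0,[],[]),(0,[],[]),(0,[],[]),(0,[],[]),(0,[],[]),(0,[],[]),(0,[],[]),(0,[],[]),(29,[2062,43,2149,2264,8066,8068,8070,8072,8074,8076,8078,8080],[5519,2061,1404,1784,489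0,6082,7003]),(9,[4696],[8065,4696]),(16,[8056,1535],[4696]),(0,[],[]),(0,[],[]),(17,[8056,2328,8088,8090],[4913]),(0,[],[]),(19,[4913,8094],[4696]),(0,[],[]),(0,[],[]),(0,[],[]),(0,[],[]),(0,[],[]),(0,[],[]),(0,[],[]),(0,[],[]),(29,[1406,198,1294,1462,4177,4964,6550,8098,8100,8102,8104,8106,8108,8110,8112],[5543,4696,7910,7912]),(0,[],[]),(27,[4539,5146,4666,5152,7099,8116],[5135,6712,5902]),(0,[],[]),(0,[],[]),(0,[],[]),(0,[],[]),(0,[],[]),(0,[],[]),(0,[],[]),(0,[],[]),(29,[4539,5110,4807,8120,8122,8124,8126,8128,8130,8132,8134],[1457,1474,1831,2386,5240,6848,6099,6970]),(0,[],[]),(0,[],[]),(0,[],[]),(23,[1464,7115,8138,8140,8142],[2690,7031,6139,6137]),(0,[],[]),(0,[],[]),(0,[],[]),(0,[],[]),(0,[],[]),(28,[2475,8146,8148,8150,8152,8154],[1464,7115,8138,8140,8142,8144,6136,6138,6140]),(0,[],[]),(0,[],[]),(26,[1465,4177,4078,4082,4517,8158,8160],[6801,6513,6511]),(0,[],[]),(0,[],[]),(0,[],[]),(0,[],[]),(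0,[],[]),(0,[],[]),(0,[],[]),(0,[],[]),(0,[],[]),(0,[],[]),(29,[6814,7280,7831,8164,8166,8168,8170,8172,8174,8176,8178,8180,8182],[1466,1468,269,6475,6915,5902]),(26,[1468,6745,6738,7329],[2137,3282,3377,4514,4237,8158]),(0,[],[]),(27,[3104,4064,1512,6194,7333,8188],[1579,5791,5976]),(0,[],[]),(0,[],[]),(0,[],[]),(0,[],[]),(0,[],[]),(0,[],[]),(0,[],[]),(0,[],[]),(0,[],[]),(0,[],[]),(29,[3104,4072,5075,8192,8194,8196,8198,8200,8202,8204,8206,8208,8210],[1467,1465,2475,3237,5708,8060]),(0,[],[]),(19,[2200,8214],[1491]),(24,[1785,1405,2062,43,2149,2312,6079],[1491,8063,8213]),(1,[8219],[]),(1,[8221,8212],[]),(1,[8221,8211],[]),(1,[6891,8224],[]),(1,[8227],[]),(1,[8229,8209],[]),(0,[],[]),(22,[1609,1831,8232],[1831,8232]),(27,[2138,2889,2884,1295,199,1536],[1831,5246,8060]),(0,[],[]),(0,[],[]),(0,[],[]),(0,[],[]),(0,[],[]),(0,[],[]),(0,[],[]),(0,[],[]),(0,[],[]),(0,[],[]),(0,[],[]),(0,[],[]),(29,[2138,2890,21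44,8238,8240,8242,8244,8246,8248,8250,8252,8254,8256,8258,8260],[1744,6194,7333,7504]),(0,[],[]),(0,[],[]),(14,[1482,8264,8266],[2872,8146]),(0,[],[]),(17,[1895,8232,8270],[1585,2761]),(0,[],[]),(0,[],[]),(0,[],[]),(0,[],[]),(0,[],[]),(0,[],[]),(25,[1481,1499,1497,8274,8276,8278,8280,8282,8284],[4674]),(0,[],[]),(0,[],[]),(0,[],[]),(0,[],[]),(0,[],[]),(0,[],[]),(0,[],[]),(0,[],[]),(0,[],[]),(29,[2935,2388,2997,2994,2396,5602,5470,8288,8290,8292,8294,8296,8298,8300,8302,8304],[2872,8146,8148]),(0,[],[]),(7,[2025,8308],[8264]),(11,[1484,3048],[8264]),(0,[],[]),(0,[],[]),(17,[2025,8314,8316],[2919,2927]),(0,[],[]),(18,[2919,8320],[8264]),(0,[],[]),(0,[],[]),(0,[],[]),(22,[2919,2197,8326,8328],[1484]),(0,[],[]),(0,[],[]),(0,[],[]),(0,[],[]),(25,[1484,3050,2123,2189,8332,8334,8336,8338],[5190,8097]),(0,[],[]),(0,[],[]),(26,[1483,2935,4860,4862,4864,8342,8344],[5190,4698,5729]),(0,[],[]),(0,[],[]),(0,[],[]),(0,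[],[]),(0,[],[]),(0,[],[]),(0,[],[]),(0,[],[]),(0,[],[]),(0,[],[]),(0,[],[]),(0,[],[]),(0,[],[]),(0,[],[]),(29,[2069,2192,8058,8348,8350,8352,8354,8356,8358,8360,8362,8364,8366,8368,8370,8372,8374],[8264,8266]),(7,[2031,7933],[3048]),(8,[8331],[2029,8331]),(0,[],[]),(0,[],[]),(14,[1486,8382,8384],[3048,2249]),(0,[],[]),(0,[],[]),(0,[],[]),(17,[2031,8388,8390,8392],[8331]),(0,[],[]),(18,[8331,8396],[3048]),(0,[],[]),(19,[8331,8400],[1486]),(0,[],[]),(0,[],[]),(0,[],[]),(0,[],[]),(0,[],[]),(0,[],[]),(0,[],[]),(25,[1485,2069,2192,8406,8408,8410,8412,8414,8416],[3052]),(0,[],[]),(0,[],[]),(0,[],[]),(0,[],[]),(0,[],[]),(0,[],[]),(26,[1486,2939,6823,8420,8422,8424,8426,8428,8430],[3052]),(7,[2037,6854],[8382]),(8,[8403],[2035,8403]),(11,[1488,2150],[8382]),(0,[],[]),(0,[],[]),(0,[],[]),(17,[2037,8440,8442,8444],[8403]),(0,[],[]),(18,[8403,8448],[8382]),(0,[],[]),(0,[],[]),(0,[],[]),(22,[8403,8454,8456],[1488,8217]),(0,[],[]),(0,[],[]),(0,[],[]),(0,[],[]),(0,[],[]),(0,[],[]),(25,[1488,8063,8223,8460,8462,8464,8466,8468,8470],[6870]),(0,[],[]),(0,[],[]),(0,[],[]),(0,[],[]),(26,[1487,3050,2124,8433,8474,8476,8478,8480],[6870,8420]),(0,[],[]),(0,[],[]),(0,[],[]),(0,[],[]),(0,[],[]),(0,[],[]),(29,[2939,2326,2145,2338,2340,5603,5637,5122,5673,3314,7093,8484,8486,8488,8490,8492,8494],[8382,8384]),(8,[8217],[2015,8217])]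
theorem ok16 : data.stepsOK st16 4000 = true := by decide +kernel
def st17 : List Step := [(0,[],[]),(17,[1782,2282,2277,8500],[8217]),(0,[],[]),(18,[8217,8504],[2150]),(0,[],[]),(20,[2150,8508],[2015,2150,8508]),(0,[],[]),(0,[],[]),(0,[],[]),(25,[1489,2939,2326,2999,3000,8500,8512,8514,8516],[5194]),(0,[],[]),(0,[],[]),(0,[],[]),(26,[1490,1785,4696,4698,4700,8520,8522,8524],[5194,4862]),(0,[],[]),(0,[],[]),(0,[],[]),(0,[],[]),(0,[],[]),(0,[],[]),(0,[],[]),(0,[],[]),(0,[],[]),(0,[],[]),(0,[],[]),(0,[],[]),(0,[],[]),(29,[8063,8223,6866,8528,8530,8532,8534,8536,8538,8540,8542,8544,8546,8548,8550,8552],[2150,7472,7581]),(0,[],[]),(14,[2744,8320,8556],[2742,7387]),(0,[],[]),(0,[],[]),(0,[],[]),(0,[],[]),(0,[],[]),(25,[1493,2391,2389,8560,8562,8564,8566,8568],[1494,8274]),(0,[],[]),(0,[],[]),(0,[],[]),(0,[],[]),(0,[],[]),(0,[],[]),(0,[],[]),(0,[],[]),(29,[3061,2891,2889,3809,3708,2475,8146,8269,8572,8574,8576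,8578,8580,8582,8584,8586],[2742,7387,7371]),(8,[8274],[4103,8274]),(0,[],[]),(14,[4960,7882,8592],[4115,4843]),(17,[4100,2989,4101,8274],[8274]),(0,[],[]),(18,[8274,8598],[4115]),(0,[],[]),(19,[8274,8602],[4960]),(22,[8274,8571],[1496,1607,1497,8274]),(1,[8606],[]),(1,[8609,8570],[]),(1,[8609,8569],[]),(0,[],[]),(0,[],[]),(0,[],[]),(0,[],[]),(25,[1496,2021,1831,8232,8614,8616,8618,8620],[2928,8273]),(0,[],[]),(0,[],[]),(0,[],[]),(0,[],[]),(0,[],[]),(0,[],[]),(0,[],[]),(0,[],[]),(0,[],[]),(29,[2021,1831,1530,8308,8624,8626,8628,8630,8632,8634,8636,8638,8640],[3078,4065,4072,5342,6920,5970]),(8,[2328],[8043,2328]),(9,[1535],[8043,1535]),(0,[],[]),(19,[2328,8648],[1535]),(26,[1535,1533,1531,5646,7478,7635,7914],[1501,728,4899]),(0,[],[]),(0,[],[]),(0,[],[]),(0,[],[]),(0,[],[]),(0,[],[]),(0,[],[]),(0,[],[]),(29,[2017,1471,1474,1744,2130,2982,3038,8654,8656,8658,8660,8662,8664,8666,8668],[5813,1535,2192,2194]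),(0,[],[]),(28,[4120,4843,4841,8672],[4065,4072,5075,5073,5486,5425,3039,2983,2976,3302,7715]),(0,[],[]),(0,[],[]),(0,[],[]),(0,[],[]),(0,[],[]),(0,[],[]),(0,[],[]),(0,[],[]),(0,[],[]),(0,[],[]),(29,[1512,5685,6838,8676,8678,8680,8682,8684,8686,8688,8690,8692,8694],[3079,3081,1497,2928,2960,5470]),(0,[],[]),(0,[],[]),(0,[],[]),(23,[6194,7333,8188,8700,8702],[7024,7030,7099,8116]),(24,[2130,2982,5871,4801,4799,7708],[6194,6196,6532]),(0,[],[]),(0,[],[]),(0,[],[]),(28,[5685,6838,8708,8710,8712],[6194,7333,8188,8700,8702,8704,8117,7098,5153,6549]),(8,[8232],[2019,8232]),(14,[1530,8308],[5646,6838,8676]),(18,[8232],[5646,8698]),(19,[8232],[1530,8314]),(24,[5246,4676,4845,1492,2744,2197],[1530,5249,7910]),(0,[],[]),(25,[1830,2138,2890,2989,2916,8273,8623,8726],[2386,8560]),(0,[],[]),(0,[],[]),(0,[],[]),(0,[],[]),(0,[],[]),(0,[],[]),(0,[],[]),(0,[],[]),(29,[5246,4676,5265,5701,5706,2757,7387,8559,8730,8732,873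4,8736,8738,8740,8742,8744],[5646,6838,8708]),(11,[1834,7933],[8308]),(7,[8086,4698],[2408]),(12,[2192],[8647,2192]),(15,[8086,7910],[2192]),(25,[2192,3059,2316,8319],[2068,2919,2197,8724,7911,8097]),(8,[8440],[2039,8440]),(14,[1540,7933,7931],[6854,5993]),(19,[8440],[1540,8388]),(8,[8388],[2033,8388]),(7,[2181,7856],[1550]),(8,[8419],[2965,8419]),(11,[2126,7856],[8433]),(22,[8419,8417],[2126,2895,2127,8419]),(1,[8773],[]),(1,[8775,8769,8774],[]),(1,[8775,8417],[]),(1,[8775,8418],[]),(18,[2895,7856],[7856]),(27,[2136,1468,6745,6738,7280,7831],[3302,5376,5049]),(7,[5254,7882],[8238]),(11,[2327,6177],[8238]),(17,[5254,8605],[2999,5254,8605]),(18,[2999,8238],[8238]),(12,[8438,8452],[8508]),(27,[2168,4985,7585],[5687,6810,6083,6712,5902,8185]),(7,[3008,8137],[6880]),(19,[2725],[2294,8500]),(21,[],[2941,2947,8332]),(6,[8755],[8753,8755]),(8,[8406],[8753,8406]),(7,[3014,8115],[8671]),(8,[8326],[3013,8326]),(11,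[2196,8320],[8671]),(14,[2748,8230,8207],[8671,8669]),(21,[2203,5243,8093],[]),(8,[2205,8817,8091],[]),(12,[3025,8817],[8819]),(9,[8800],[3011,8800]),(24,[2218,2983,2986,7099,8116,8705],[7387,7477,6554]),(14,[3038,8654],[3037,3038,8654]),(7,[6875,8098],[8654]),(11,[5424,4951],[8654]),(18,[3043,8654],[8654]),(27,[2224,2172,5880,5901,7413,7823],[5424,7023,7016]),(24,[2228,2230,7042,6138,6140,8157],[2380,5804,7388]),(11,[2246,8387,8497],[]),(16,[],[2248,8379,7931]),(12,[8312,8324],[8404]),(11,[],[2268,2379,8137]),(11,[2357,8230],[5654]),(8,[8319],[3017,8319]),(19,[8319],[2318,8273]),(25,[2317,7913,7911,8097],[2349,2895,2127,2932,1835,8314]),(8,[8273],[2925,8273]),(22,[8273,8623],[2320,2439,2321,8273]),(1,[8856],[]),(1,[8859,8622],[]),(1,[8859,8726],[]),(1,[8859,8621],[]),(25,[2320,4679,4677,8287],[2917,2989,2891,2139,1831,8232]),(7,[6865,8420],[6177]),(14,[6823,8420,8483],[6177,6175]),(6,[8088,8818],[8645,80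88]),(1,[8873],[]),(1,[8875,8818],[]),(1,[8875,8821],[]),(1,[3024,8878],[]),(1,[8875,8089],[]),(1,[8881],[]),(1,[8885,8816],[]),(1,[8885,8092],[]),(7,[8883],[5821,8883]),(24,[2330,4906,5223,5220,8094,8341,8339,8337],[8648]),(24,[2340,5603,7499,7272,7914],[5927,6894,4739,5305]),(24,[5347,4965,7045,6139,6137,8145],[5470,6799,7413]),(11,[],[2374,8895,7916]),(14,[4860,4862,8527],[5240,6848]),(19,[8560],[4860,8519]),(22,[8560,8729],[2388,4846,4677,8287]),(1,[8904],[]),(1,[8907,8728],[]),(1,[8284,8908],[]),(1,[8907,8863],[]),(1,[8911],[]),(1,[8915,8902],[]),(1,[8915,8561],[]),(1,[8915,8562],[]),(26,[4860,5195,1490,4890,6712,6914,7670],[2934,2872,8146]),(16,[5682,6838],[8146]),(26,[8146],[3237,5708,8060,8062,1490,4890,5437,5769,4818]),(6,[7814],[5141,6328]),(7,[7814],[5201,7950]),(16,[7814],[7233,7230]),(27,[5785,4753,5809,6507,6595,7818],[4072,3110,4980]),(24,[3710,3303,2136,1579,6146,6148],[4980,8935,7820]),(2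0,[5123,5855,7707],[5112,7699]),(27,[4191,4079,7045,6140,8157,8155],[3319,5803,7716]),(8,[7284],[4159,7854]),(24,[4097,4094,3708,2475,8146,8148,8307],[5896,6940,7824]),(1,[8944],[]),(1,[8947,8305],[]),(18,[7854],[4488,7210]),(26,[3377,4474,3937,3934,7164,7648,7647],[4514,8158,8160]),(24,[5376,4726,5673,3314,7093,7091,7089],[7715,7713]),(14,[7093,8484],[5715,7093,8484]),(26,[7093],[5716,7482,8188,8190,5977,5713,5790,7467,8138]),(26,[4175,4517,4237,8158],[4469,3934,7524,7199,7513,7510]),(6,[7934],[4473,7934]),(7,[7934],[7185,7180]),(16,[7934],[4231,7934]),(7,[3796,8158],[3934]),(14,[4237,8158,8160],[8158,8160]),(16,[8969,8160],[7524]),(6,[7950],[5213,7950]),(15,[7950],[5203,7950]),(16,[7950],[5211,7938]),(21,[4565],[5213,7950]),(6,[7938],[5209,7938]),(21,[6279],[5140,7814]),(24,[5289,2716,5757,5876,5902,8185,8183],[5039,5037,8697]),(1,[8987],[]),(1,[8989,8696],[]),(1,[8989,8695],[]),(7,[5857,7707],[5928,7850]),(1,[8995],[]),(1,[8997,7853,8996],[])]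
theorem ok17 : data.stepsOK st17 4250 = true := by decide +kernel
def st18 : List Step := [(1,[8997,7851],[]),(15,[5857,7708],[6802]),(12,[5968],[5855,7708]),(21,[4889],[6896,9003]),(27,[4666,5152,4123,4065,4072,5075],[6532,8707,7710]),(11,[6549],[7100,7663]),(8,[8097],[8085,8097]),(11,[7910,8348],[4698]),(24,[5343,4073,5785,4754,6095,6093],[5049,8785,7829]),(21,[7849],[5382,5281]),(24,[6553],[4740,5133,4255,5815,5135,6082,7003,8083]),(14,[4794,5954],[5726,5440,7702]),(22,[5736,5876,7789,7787],[4746,6022]),(1,[9024],[]),(1,[9027,7786],[]),(1,[9027,7785],[]),(27,[5183,4817,5935,7497,7272,7914],[4746,4748,6155]),(24,[4748,4750,5809,4655,5039,7824],[4818,6134,8145]),(25,[4750,5809,4655,5179,5289,5872,5875],[4749,6022,9028]),(26,[6155,9033,7915,7635,7274,7475,8116],[4749,5768,5430]),(24,[4757,4755,5817,3302,7715,8675],[5976,8191,8700]),(24,[5436,5134,4539,5110,4807,6554],[5430,7029,8708]),(26,[4790,5754,1232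,4968],[5639,5122,3693,5443,5440,7702]),(27,[5721,5154,5697,5642,4759,5976],[7310,7312,8715]),(27,[4796,4798,5848,5702,3314,7093],[7388,8837,8155]),(11,[7708],[7707,7792]),(14,[4798,5839,4799,7707],[7707]),(23,[4799,7708,7710,8955],[5836,5604,2757,7387,7371]),(24,[5867,4121,1512,5685,6838,8708,8747],[4802,6978,6541]),(1,[9056],[]),(1,[9059,8745],[]),(7,[6977,6734],[8120]),(18,[5389,8120],[8120]),(27,[4838,8672],[7018,6101,6849,4918,6838,8708,8710]),(12,[4840,6924,9020],[]),(21,[4839,7022],[9069]),(27,[6868,6151],[4840,5423,5041,4652,5039,7824,7826]),(11,[5234,8528],[4862]),(7,[8889],[5799,8889]),(7,[],[4950,9070,8081]),(15,[9078],[8830,8829]),(16,[9078,8079],[4949]),(8,[8605],[5253,8605]),(11,[5999,8420],[7882]),(14,[6550,8098],[5291,6550,8098]),(23,[6550,9020],[5273,4112,4094,3803,6316,5975,7693]),(24,[4999,5407,5192,6316,5975,7693,7691],[7716,8941,8153]),(1,[9093],[]),(1,[9095,8151],[]),(27,[5310,2381,2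228,5496,5001,7716],[7110,7112,8138]),(11,[6544,8263],[7702]),(7,[7492,8559],[8288]),(11,[8991,8181],[8288]),(15,[7492,7371],[8991]),(15,[6708,6541],[7824]),(27,[5070,5486,7023,7016,6092,6094,4756,5976,9046,8713],[]),(1,[9110],[]),(1,[9113,8711],[]),(1,[9113,8712],[]),(1,[9113,9067],[]),(14,[5902,5904],[6914,7670,7672]),(24,[6474,268,6745,5883,5901,7413,7411],[7670,8922,8148]),(1,[9123],[]),(1,[9125,9097],[]),(1,[9125,8149],[]),(21,[8083],[7008,6988]),(15,[9001,7792],[6957]),(9,[5970],[9004,7710]),(27,[5973,5971,7560,7831,7829,7827,9034,8143],[7693]),(11,[5990,8761,7929],[]),(7,[],[8761,8841,8387]),(15,[9140,8497],[5991]),(8,[8473],[6893,8473]),(21,[7757],[6990,6711,7778]),(1,[9147],[]),(1,[9149,7780],[]),(1,[9149,7779],[]),(7,[8924,8269],[8676]),(15,[8924,9129],[8708]),(24,[7790],[6136,7046,3235,5706,2757,7387,7371,8589]),(27,[6987,5487],[6152,9033,7915,7274,8116,8705,8703]),(16,[],[6174,8869,8483]),(16,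[],[6214,8799,8135]),(12,[7420],[7414,7663]),(21,[],[8929,7815,7150]),(7,[9108,8948],[9060]),(11,[6540,7070],[9060]),(24,[6547,6545,5485,5968,5970,8643,8641],[8715,9047]),(16,[],[6588,9133,7794]),(27,[7088],[8954,9009,5074,3110,4980,4982,4984,2169]),(24,[7484,5307,2396,5602,5470,8991,8992],[8116,9038]),(17,[8973],[7200,4163,7201,8973]),(14,[7914,7916],[7635,7914,7916]),(21,[7293],[7501,9133]),(27,[7369],[7370,7477,4806,5387,4741,4739,4737,7849]),(14,[7406,7408,9126,7689,7687],[]),(11,[],[7408,9128,8269,8377]),(1,[9193],[]),(1,[9195,8376],[]),(1,[9195,8375],[]),(16,[9156,9115],[9126]),(21,[],[8939,9000,7434]),(11,[9158,8587],[7672]),(11,[7684,9190,7405],[]),(7,[],[7688,9201,5069]),(16,[9208,5067],[7687]),(24,[7704,7792,9187,7643,7647,7626],[9023,5956,6156]),(25,[],[7751,6967,4774,5444,1236,1238,5879,7789,9029,9030,7783]),(1,[9215],[]),(1,[9217,7782],[]),(1,[9217,9151],[]),(1,[7753,9220],[]),(1,[9223],[]),(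1,[9225,7755],[]),(1,[9225,7756],[]),(1,[9225,9152],[]),(21,[],[8928,6329,4640]),(7,[],[9138,9143,8838]),(21,[],[8963,7935,3408]),(21,[],[8983,7939,7954]),(21,[],[8975,7951,7942]),(25,[8223,6078,2313,2283,5237,8519,8517],[8062,8217,8459]),(15,[],[8076,9082,4947]),(12,[8341],[9013,8341]),(16,[],[8112,8808,8669]),(15,[],[8132,9165,6213]),(11,[8204,8814,8667],[]),(12,[8459],[8499,8459]),(15,[8503,8512],[8459]),(21,[8864],[8855,8271,8614]),(1,[9258],[]),(1,[9261,8619],[]),(1,[9261,8865],[]),(21,[8612],[8591,8597,8276]),(1,[9266],[]),(1,[9269,8567],[]),(1,[9269,8613],[]),(25,[9270],[8277,8275,1496,1498,1480,1585,1494,8274,8611,9273]),(1,[9274],[]),(1,[9277,9271],[]),(1,[9277,8565],[]),(1,[8279,9280],[]),(1,[9283],[]),(1,[9285,8921],[]),(22,[8279,9279,8278,8280],[8280]),(16,[],[8302,9170,8743]),(21,[],[8325,8311,8624]),(6,[8395],[8381,8395]),(16,[8395],[8400,8447]),(6,[8390],[8765,8390]),(16,[8390],[8763,8442])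,(9,[9300],[9299,9300]),(9,[9296],[9295,9296]),(12,[8454],[8437,8454]),(6,[9257],[9255,9257]),(12,[8470,9145,8471],[]),(21,[],[8509,2923,2360]),(25,[9262],[8615,8233,1830,2020,1497,8274,9273,8278,8280]),(25,[9263,9264,8861,8272,2929,8274,8611,8276,9279,8278],[]),(11,[],[8638,9174,5978]),(15,[],[8666,9249,8111]),(24,[9119,9116,9047,9175],[8673,6868,6152,9033,8894]),(11,[],[8692,9180,5052]),(0,[],[]),(18,[8314,9326],[8308]),(0,[],[]),(0,[],[]),(0,[],[]),(22,[8314,9332,9334],[1834,8388]),(0,[],[]),(0,[],[]),(25,[1834,2933,2126,2895,2348,8319,9338,9340],[1532,8651]),(0,[],[]),(0,[],[]),(0,[],[]),(0,[],[]),(26,[1531,5246,8060,9344,9346,9348,9350],[1532,2408,5819]),(0,[],[]),(0,[],[]),(0,[],[]),(0,[],[]),(0,[],[]),(0,[],[]),(0,[],[]),(0,[],[]),(0,[],[]),(0,[],[]),(0,[],[]),(0,[],[]),(0,[],[]),(0,[],[]),(29,[5249,7910,8059,9354,9356,9358,9360,9362,9364,9366,9368,9370,9372,9374,9376,9378,9380],[8308,8718]),(11,[2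192,9354],[2408]),(0,[],[]),(0,[],[]),(17,[8086,8097,9386,9388],[8651]),(0,[],[]),(18,[8651,9392],[2408]),(0,[],[]),(0,[],[]),(22,[8651,9343,9398],[2192,8406]),(0,[],[]),(0,[],[]),(26,[1534,2017,1491,2150,2152,9402,9404],[2068,8264,8266]),(0,[],[]),(0,[],[]),(0,[],[]),(0,[],[]),(0,[],[]),(0,[],[]),(0,[],[]),(0,[],[]),(0,[],[]),(0,[],[]),(0,[],[]),(0,[],[]),(29,[1533,1834,1541,6854,9408,9410,9412,9414,9416,9418,9420,9422,9424,9426,9428,9430],[2408,5819,9385]),(0,[],[]),(20,[2358,9434],[1781,2358,9434]),(0,[],[]),(22,[2282,2312,9438],[1538,8440]),(0,[],[]),(0,[],[]),(0,[],[]),(0,[],[]),(0,[],[]),(25,[1538,6856,5998,8605,9442,9444,9446,9448,9450],[8236]),(0,[],[]),(0,[],[]),(0,[],[]),(26,[1537,1500,1535,2408,2410,9454,9456,9458],[8236,9344]),(0,[],[]),(0,[],[]),(0,[],[]),(0,[],[]),(0,[],[]),(0,[],[]),(0,[],[]),(0,[],[]),(0,[],[]),(0,[],[]),(0,[],[]),(0,[],[]),(29,[5237,5234,6867,6077,9462,9464,9466,9468,9470,9472,9474,9476,9478,9480,9482,9484],[2358,4894,7051]),(0,[],[]),(18,[8440,9488],[6854]),(0,[],[]),(0,[],[]),(0,[],[]),(0,[],[])]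
theorem ok18 : data.stepsOK st18 4500 = true := by decide +kernel
def st19 : List Step := [(0,[],[]),(0,[],[]),(0,[],[]),(25,[1539,5237,5234,9494,9496,9498,9500,9502,9504],[2324]),(0,[],[]),(0,[],[]),(0,[],[]),(0,[],[]),(26,[1540,2933,2125,9508,9510,9512,9514],[2324,6177,6175]),(0,[],[]),(18,[8388,9518],[7933]),(0,[],[]),(20,[7933,9522],[2033,7933,9522]),(0,[],[]),(0,[],[]),(0,[],[]),(0,[],[]),(0,[],[]),(0,[],[]),(25,[1835,5249,7910,9526,9528,9530,9532,9534,9536],[2968]),(0,[],[]),(0,[],[]),(0,[],[]),(0,[],[]),(26,[1541,6856,6822,6177,9540,9542,9544,9546],[2968,9508]),(11,[2122,9508],[1550]),(0,[],[]),(18,[2189,9552],[1550]),(0,[],[]),(20,[1550,9556],[2075,1550,9556]),(0,[],[]),(22,[2189,9560],[2122,9539,9537]),(0,[],[]),(0,[],[]),(0,[],[]),(25,[2122,2969,1835,8314,9564,9566,9568],[2957,8319,9338]),(0,[],[]),(0,[],[]),(0,[],[]),(0,[],[]),(26,[1549,40,2149,2264,8066,9572,9574,9576,9578],[2957]),(0,[],[]),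(0,[],[]),(0,[],[]),(0,[],[]),(0,[],[]),(0,[],[]),(0,[],[]),(0,[],[]),(0,[],[]),(0,[],[]),(0,[],[]),(0,[],[]),(29,[2199,2197,2748,8230,9582,9584,9586,9588,9590,9592,9594,9596,9598,9600,9602,9604],[1550,2077,9551]),(0,[],[]),(6,[8767,9608],[9556]),(0,[],[]),(8,[9555,9612],[9556]),(9,[2077,9556],[9556]),(0,[],[]),(12,[9551,9618],[9556]),(15,[8767,8770],[9551]),(17,[8767,8783,8766,9555],[9555]),(19,[9555],[2077,9555]),(0,[],[]),(21,[9628],[9556,9611]),(0,[],[]),(0,[],[]),(0,[],[]),(22,[9555,9632,9634,9636],[9551]),(0,[],[]),(0,[],[]),(0,[],[]),(0,[],[]),(23,[2077,9551,9549,9640,9642,9644,9646],[9556,9611]),(0,[],[]),(0,[],[]),(24,[1552,1554,9650,9652],[2077,1552,1554,9650,9652]),(0,[],[]),(0,[],[]),(0,[],[]),(0,[],[]),(0,[],[]),(0,[],[]),(0,[],[]),(25,[9551,9510,9656,9658,9660,9662,9664,9666,9668],[9628]),(0,[],[]),(0,[],[]),(0,[],[]),(0,[],[]),(0,[],[]),(0,[],[]),(0,[],[]),(26,[2077,1552,9672,9674,9676,9678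,9680,9682,9684],[9628]),(0,[],[]),(0,[],[]),(0,[],[]),(0,[],[]),(0,[],[]),(27,[1552,9672,9688,9690,9692,9694,9696],[9551,9510]),(28,[9551,9549,9640,9642,9644,9646,9648],[2077,9551,9549,9640,9642,9644,9646,9648]),(0,[],[]),(0,[],[]),(0,[],[]),(0,[],[]),(0,[],[]),(6,[9708,9710],[9704]),(0,[],[]),(7,[9708,9714],[9706]),(0,[],[]),(8,[9702,9718],[9704]),(0,[],[]),(9,[9672,9722],[9704]),(0,[],[]),(11,[1554,9726],[9706]),(0,[],[]),(12,[1554,9730],[9704]),(0,[],[]),(0,[],[]),(14,[9672,9674,9734,9736],[9706]),(0,[],[]),(15,[9708,9740],[1554]),(0,[],[]),(16,[9708,9744],[9672]),(0,[],[]),(0,[],[]),(0,[],[]),(17,[9708,9748,9750,9752],[9702]),(0,[],[]),(18,[9702,9756],[9706]),(0,[],[]),(19,[9702,9760],[9672]),(0,[],[]),(0,[],[]),(0,[],[]),(20,[9706,9764,9766,9768],[9704]),(21,[1553,9628],[9704,9713]),(1,[9773],[]),(1,[9775,9711],[]),(1,[9775,9712],[]),(0,[],[]),(0,[],[]),(0,[],[]),(22,[9702,9780,9782,9784],[1554]),(0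,[],[]),(0,[],[]),(0,[],[]),(0,[],[]),(0,[],[]),(0,[],[]),(23,[9672,9788,9790,9792,9794,9796,9798],[9704,9779]),(0,[],[]),(0,[],[]),(0,[],[]),(0,[],[]),(0,[],[]),(0,[],[]),(0,[],[]),(24,[9802,9804,9806,9808,9810,9812,9814],[9672,9688]),(0,[],[]),(0,[],[]),(0,[],[]),(0,[],[]),(25,[1554,9650,9652,9818,9820,9822,9824],[1553,9555,9632]),(0,[],[]),(26,[9672,9688,9690,9828],[1553,1551,1549,2177,2294,5654]),(0,[],[]),(0,[],[]),(0,[],[]),(0,[],[]),(0,[],[]),(0,[],[]),(27,[9802,9832,9834,9836,9838,9840,9842],[1554,9650]),(0,[],[]),(0,[],[]),(0,[],[]),(0,[],[]),(0,[],[]),(28,[1554,1556,9846,9848,9850,9852,9854],[9672,9788,9790,9792,9794,9796,9798,9800]),(0,[],[]),(0,[],[]),(0,[],[]),(0,[],[]),(0,[],[]),(0,[],[]),(0,[],[]),(0,[],[]),(0,[],[]),(0,[],[]),(0,[],[]),(0,[],[]),(0,[],[]),(0,[],[]),(0,[],[]),(29,[9802,9804,9858,9860,9862,9864,9866,9868,9870,9872,9874,9876,9878,9880,9882,9884,9886],[9706,9739]),(0,[],[]),(6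,[9743,9890],[9730]),(0,[],[]),(7,[9743,9894],[9726]),(0,[],[]),(8,[9787,9898],[9730]),(0,[],[]),(9,[1556,9902],[9730]),(0,[],[]),(0,[],[]),(14,[1556,1558,9906,9908],[9726]),(0,[],[]),(16,[9743,9912],[1556]),(0,[],[]),(0,[],[]),(0,[],[]),(17,[9743,9916,9918,9920],[9787]),(0,[],[]),(18,[9787,9924],[9726]),(0,[],[]),(19,[9787,9928],[1556]),(0,[],[]),(0,[],[]),(0,[],[]),(20,[9726,9932,9934,9936],[9730]),(0,[],[]),(21,[9940],[9730,9893]),(23,[1556,9846,9848,9850,9852,9854,9856,9801],[9730,9893]),(1,[9945],[]),(1,[9947,9891],[]),(1,[9947,9892],[]),(1,[9947,9943],[]),(0,[],[]),(0,[],[]),(0,[],[]),(0,[],[]),(0,[],[]),(0,[],[]),(24,[9650,9652,9954,9956,9958,9960,9962,9964],[1556]),(0,[],[]),(0,[],[]),(0,[],[]),(0,[],[]),(0,[],[]),(0,[],[]),(25,[1555,9802,9804,9968,9970,9972,9974,9976,9978],[9940]),(0,[],[]),(0,[],[]),(0,[],[]),(0,[],[]),(0,[],[]),(0,[],[]),(0,[],[]),(26,[1556,9967,9982,9984,9986,9988,9990,9992,9994],[9940]),(0,[],[])]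
theorem ok19 : data.stepsOK st19 4750 = true := by decide +kernel
def st20 : List Step := [(0,[],[]),(0,[],[]),(0,[],[]),(0,[],[]),(0,[],[]),(0,[],[]),(0,[],[]),(0,[],[]),(0,[],[]),(0,[],[]),(0,[],[]),(0,[],[]),(0,[],[]),(29,[9650,9652,9655,9998,10000,10002,10004,10006,10008,10010,10012,10014,10016,10018,10020,10022,10024],[9726,9911]),(0,[],[]),(6,[9915,10028],[9902]),(0,[],[]),(7,[9915,10032],[1558]),(0,[],[]),(8,[9931,10036],[9902]),(0,[],[]),(11,[9846,10040],[1558]),(0,[],[]),(12,[9846,10044],[9902]),(0,[],[]),(15,[9915,10048],[9846]),(0,[],[]),(0,[],[]),(0,[],[]),(17,[9915,10052,10054,10056],[9931]),(0,[],[]),(18,[9931,10060],[1558]),(0,[],[]),(0,[],[]),(21,[10066],[9902,10031]),(0,[],[]),(23,[1557,1555,9672,9788,9790,9792,9794,9796],[9902,10031]),(1,[10073],[]),(1,[10075,10029],[]),(1,[10075,10030],[]),(1,[10075,10069],[]),(0,[],[]),(0,[],[]),(0,[],[]),(0,[],[]),(0,[],[]),(0,[],[]),(0,[],[]),(0,[],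[]),(25,[9846,10082,10084,10086,10088,10090,10092,10094,10096],[10066]),(0,[],[]),(0,[],[]),(0,[],[]),(0,[],[]),(0,[],[]),(0,[],[]),(0,[],[]),(27,[9967,9982,10104,10106,10108,10110,10112],[9846,10082]),(0,[],[]),(0,[],[]),(0,[],[]),(0,[],[]),(0,[],[]),(0,[],[]),(0,[],[]),(0,[],[]),(0,[],[]),(0,[],[]),(0,[],[]),(0,[],[]),(0,[],[]),(0,[],[]),(0,[],[]),(29,[9967,9965,10116,10118,10120,10122,10124,10126,10128,10130,10132,10134,10136,10138,10140,10142,10144],[1558,9906]),(0,[],[]),(6,[10035,10148],[10064]),(0,[],[]),(8,[10063,10152],[10064]),(0,[],[]),(0,[],[]),(0,[],[]),(15,[10035,10160],[10043]),(0,[],[]),(16,[10035,10164],[9906]),(0,[],[]),(0,[],[]),(0,[],[]),(17,[10035,10168,10170,10172],[10063]),(0,[],[]),(19,[10063,10176],[9906]),(0,[],[]),(21,[10180],[10064,10151]),(0,[],[]),(0,[],[]),(0,[],[]),(0,[],[]),(0,[],[]),(0,[],[]),(23,[9906,10147,10186,10188,10190,10192,10194],[10064,10151]),(0,[],[]),(0,[],[]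),(0,[],[]),(0,[],[]),(0,[],[]),(0,[],[]),(24,[1560,1562,10198,10200,10202,10204,10206,10208],[9906]),(0,[],[]),(0,[],[]),(0,[],[]),(0,[],[]),(0,[],[]),(0,[],[]),(0,[],[]),(0,[],[]),(25,[10043,10212,10214,10216,10218,10220,10222,10224,10226],[10180]),(0,[],[]),(0,[],[]),(0,[],[]),(0,[],[]),(0,[],[]),(0,[],[]),(27,[1560,10230,10232,10234,10236,10238,10240],[10043,10212]),(0,[],[]),(0,[],[]),(0,[],[]),(0,[],[]),(0,[],[]),(0,[],[]),(28,[10043,10244,10246,10248,10250,10252,10254],[9906,10147,10186,10188,10190,10192,10194,10196]),(0,[],[]),(0,[],[]),(0,[],[]),(0,[],[]),(0,[],[]),(6,[10264,10266],[10260]),(0,[],[]),(7,[10264,10270],[10262]),(0,[],[]),(8,[10258,10274],[10260]),(0,[],[]),(9,[10230,10278],[10260]),(0,[],[]),(11,[1562,10282],[10262]),(0,[],[]),(12,[1562,10286],[10260]),(0,[],[]),(0,[],[]),(0,[],[]),(14,[10230,10290,10292,10294],[10262]),(0,[],[]),(15,[10264,10298],[1562]),(0,[],[]),(16,[10264,10302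],[10230]),(0,[],[]),(0,[],[]),(0,[],[]),(17,[10264,10306,10308,10310],[10258]),(0,[],[]),(18,[10258,10314],[10262]),(0,[],[]),(19,[10258,10318],[10230]),(0,[],[]),(21,[1561,10180],[10260,10269]),(1,[10325],[]),(1,[10327,10267],[]),(1,[10327,10268],[]),(0,[],[]),(0,[],[]),(0,[],[]),(22,[10258,10332,10334,10336],[1562]),(0,[],[]),(0,[],[]),(0,[],[]),(0,[],[]),(0,[],[]),(0,[],[]),(23,[10230,10340,10342,10344,10346,10348,10350],[10260,10331]),(0,[],[]),(0,[],[]),(0,[],[]),(0,[],[]),(0,[],[]),(0,[],[]),(0,[],[]),(24,[10354,10356,10358,10360,10362,10364,10366],[10230,10232]),(0,[],[]),(0,[],[]),(0,[],[]),(0,[],[]),(25,[1562,10198,10200,10370,10372,10374,10376],[1561,10063,10184]),(0,[],[]),(0,[],[]),(0,[],[]),(26,[10230,10232,10234,10380,10382,10384],[1561,1559,1557,9940]),(0,[],[]),(0,[],[]),(0,[],[]),(0,[],[]),(0,[],[]),(0,[],[]),(0,[],[]),(28,[1562,1564,10392,10394,10396,10398,10400],[10230,10340,10342,1034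4,10346,10348,10350,10352]),(0,[],[]),(0,[],[]),(0,[],[]),(0,[],[]),(0,[],[]),(0,[],[]),(0,[],[]),(0,[],[]),(0,[],[]),(0,[],[]),(0,[],[]),(0,[],[]),(0,[],[]),(0,[],[]),(0,[],[]),(29,[10354,10356,10404,10406,10408,10410,10412,10414,10416,10418,10420,10422,10424,10426,10428,10430,10432],[10262,10297]),(0,[],[]),(6,[10301,10436],[10286]),(0,[],[]),(7,[10301,10440],[10282]),(0,[],[]),(9,[1564,10444],[10286]),(0,[],[]),(0,[],[]),(14,[1564,1566,10448,10450],[10282]),(0,[],[]),(16,[10301,10454],[1564]),(0,[],[]),(0,[],[]),(18,[10339,10460],[10282]),(0,[],[]),(0,[],[]),(21,[10466],[10286,10439]),(23,[1564,10392,10394,10396,10398,10400,10402,10353],[10286,10439]),(1,[10471],[]),(1,[10473,10437],[]),(1,[10473,10469],[]),(0,[],[]),(0,[],[]),(0,[],[]),(0,[],[]),(0,[],[]),(0,[],[]),(24,[10198,10200,10478,10480,10482,10484,10486,10488],[1564]),(0,[],[]),(0,[],[]),(0,[],[]),(0,[],[])]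
theorem ok20 : data.stepsOK st20 5000 = true := by decide +kernel
def st21 : List Step := [(0,[],[]),(0,[],[]),(25,[1563,10354,10356,10492,10494,10496,10498,10500,10502],[10466]),(0,[],[]),(0,[],[]),(0,[],[]),(0,[],[]),(0,[],[]),(0,[],[]),(0,[],[]),(26,[1564,10491,10506,10508,10510,10512,10514,10516,10518],[10466]),(0,[],[]),(0,[],[]),(0,[],[]),(0,[],[]),(0,[],[]),(0,[],[]),(0,[],[]),(0,[],[]),(0,[],[]),(0,[],[]),(0,[],[]),(0,[],[]),(0,[],[]),(0,[],[]),(29,[10198,10200,10202,10522,10524,10526,10528,10530,10532,10534,10536,10538,10540,10542,10544,10546,10548],[10282,10453]),(0,[],[]),(6,[10457,10552],[10444]),(0,[],[]),(7,[10457,10556],[1566]),(0,[],[]),(11,[10392,10560],[1566]),(0,[],[]),(12,[10392,10564],[10444]),(0,[],[]),(15,[10457,10568],[10392]),(0,[],[]),(0,[],[]),(21,[10574],[10444,10555]),(23,[1565,1563,10230,10340,10342,10344,10346,10348],[10444,10555]),(1,[10579],[]),(1,[10581,10553],[]),(1,[10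581,10577],[]),(0,[],[]),(0,[],[]),(0,[],[]),(0,[],[]),(0,[],[]),(0,[],[]),(0,[],[]),(0,[],[]),(25,[10392,10586,10588,10590,10592,10594,10596,10598,10600],[10574]),(0,[],[]),(0,[],[]),(0,[],[]),(0,[],[]),(0,[],[]),(0,[],[]),(0,[],[]),(0,[],[]),(0,[],[]),(0,[],[]),(0,[],[]),(0,[],[]),(0,[],[]),(0,[],[]),(0,[],[]),(29,[10491,10489,10604,10606,10608,10610,10612,10614,10616,10618,10620,10622,10624,10626,10628,10630,10632],[1566,10448]),(0,[],[]),(6,[10559,10636],[10572]),(0,[],[]),(15,[10559,10640],[10563]),(0,[],[]),(21,[10644],[10572,10639]),(0,[],[]),(0,[],[]),(0,[],[]),(0,[],[]),(0,[],[]),(23,[10448,10635,10648,10650,10652,10654,10656],[10572,10639]),(0,[],[]),(0,[],[]),(0,[],[]),(0,[],[]),(0,[],[]),(0,[],[]),(24,[1568,1570,10660,10662,10664,10666,10668,10670],[10448]),(0,[],[]),(0,[],[]),(0,[],[]),(0,[],[]),(0,[],[]),(0,[],[]),(0,[],[]),(0,[],[]),(27,[1568,10678,10680,10682,10684,10686,10688],[10563,1067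4]),(0,[],[]),(0,[],[]),(0,[],[]),(0,[],[]),(0,[],[]),(0,[],[]),(28,[10563,10692,10694,10696,10698,10700,10702],[10448,10635,10648,10650,10652,10654,10656,10658]),(0,[],[]),(0,[],[]),(0,[],[]),(0,[],[]),(6,[10710,10712],[10708]),(0,[],[]),(0,[],[]),(12,[1570,10718],[10708]),(0,[],[]),(15,[10710,10722],[1570]),(0,[],[]),(16,[10710,10726],[10678]),(21,[1569,10644],[10708,10715]),(1,[10731],[]),(1,[10733,10714],[]),(0,[],[]),(0,[],[]),(0,[],[]),(22,[10706,10736,10738,10740],[1570]),(0,[],[]),(0,[],[]),(0,[],[]),(0,[],[]),(0,[],[]),(0,[],[]),(23,[10678,10744,10746,10748,10750,10752,10754],[10708,10735]),(0,[],[]),(0,[],[]),(0,[],[]),(0,[],[]),(0,[],[]),(0,[],[]),(0,[],[]),(24,[10758,10760,10762,10764,10766,10768,10770],[10678,10680]),(0,[],[]),(0,[],[]),(0,[],[]),(0,[],[]),(26,[10678,10680,10682,10776,10778,10780],[1569,1567,1565,10466]),(0,[],[]),(0,[],[]),(0,[],[]),(0,[],[]),(0,[],[]),(0,[],[]),(27,[10758,1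0784,10786,10788,10790,10792,10794],[1570,10660]),(28,[1570,1572,7599,7597,7598,1573,1571,10678,10744,10746,10748,10750,10752,10754,10756],[10678]),(1,[10799],[]),(1,[10801,10679],[]),(1,[10801,10744],[]),(1,[10756,10804],[]),(1,[10801,10729],[]),(1,[10735,10808],[]),(1,[10801,10680],[]),(1,[10644,10812],[]),(1,[10806],[]),(1,[10817,10755],[]),(1,[10747,10818],[]),(1,[10817,10756],[]),(1,[10811],[]),(1,[10825,10727],[]),(1,[10815],[]),(1,[10829,10682],[]),(1,[10449,10830],[]),(1,[10829,10773],[]),(1,[10562,10834],[]),(1,[10821],[]),(1,[10839,10753],[]),(1,[10749,10840],[]),(1,[10833],[]),(1,[10845,10684],[]),(1,[10634,10846],[]),(1,[10837],[]),(1,[10851,10771],[]),(1,[10675,10852],[]),(1,[10843],[]),(1,[10857,10751],[]),(1,[10849],[]),(1,[10861,10686],[]),(1,[10649,10862],[]),(1,[10855],[]),(1,[10867,10769],[]),(1,[10677,10868],[]),(1,[10865],[]),(1,[10873,10688],[]),(1,[10871],[]),(1,[10877,10767],[]),(0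,[],[]),(0,[],[]),(0,[],[]),(0,[],[]),(0,[],[]),(0,[],[]),(0,[],[]),(0,[],[]),(0,[],[]),(0,[],[]),(6,[10725,10898],[10718]),(0,[],[]),(0,[],[]),(9,[1572,10904],[10718]),(0,[],[]),(0,[],[]),(14,[1572,1574,10908,10910],[10716]),(0,[],[]),(16,[10725,10914],[1572]),(0,[],[]),(19,[10743,10918],[1572]),(0,[],[]),(21,[10922],[10718,10901]),(23,[1572,7599,7597,7598,1573,1571,10803,10823],[10718,10901]),(1,[10927],[]),(1,[10929,10900],[]),(1,[10929,10925],[]),(0,[],[]),(0,[],[]),(0,[],[]),(0,[],[]),(0,[],[]),(0,[],[]),(24,[10660,10662,10934,10936,10938,10940,10942,10944],[1572]),(0,[],[]),(0,[],[]),(0,[],[]),(0,[],[]),(0,[],[]),(0,[],[]),(25,[1571,10758,10760,10948,10950,10952,10954,10956,10958],[10922]),(0,[],[]),(0,[],[]),(0,[],[]),(0,[],[]),(0,[],[]),(0,[],[]),(0,[],[]),(26,[1572,10947,10962,10964,10966,10968,10970,10972,10974],[10922]),(0,[],[]),(0,[],[]),(0,[],[]),(0,[],[]),(0,[],[]),(0,[],[]),(0,[],[]),(0,[],[]),(0,[],[]),(0,[],[]),(0,[],[])]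
theorem ok21 : data.stepsOK st21 5250 = true := by decide +kernel
def st22 : List Step := [(0,[],[]),(0,[],[]),(0,[],[]),(29,[10660,10662,10664,10978,10980,10982,10984,10986,10988,10990,10992,10994,10996,10998,11000,11002,11004],[10716,10913]),(0,[],[]),(6,[10917,11008],[10904]),(0,[],[]),(7,[10917,11012],[1574]),(0,[],[]),(12,[7599,11016],[10904]),(0,[],[]),(15,[10917,11020],[7599]),(0,[],[]),(0,[],[]),(0,[],[]),(20,[1574,11024,11026,11028],[10904]),(0,[],[]),(21,[11032],[10904,11011]),(0,[],[]),(0,[],[]),(0,[],[]),(22,[10921,11036,11038,11040],[7599]),(23,[1573,1571,10803,10823,10746,10748,10859,10749],[10904,11011]),(1,[11045],[]),(1,[11047,11009],[]),(1,[11047,11010],[]),(1,[11047,11035],[]),(0,[],[]),(0,[],[]),(0,[],[]),(0,[],[]),(0,[],[]),(0,[],[]),(0,[],[]),(0,[],[]),(25,[7599,11054,11056,11058,11060,11062,11064,11066,11068],[11032]),(0,[],[]),(0,[],[]),(0,[],[]),(0,[],[]),(0,[],[]),(0,[],[]),(26,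[1573,10660,10797,11072,11074,11076,11078,11080,11082],[11032]),(0,[],[]),(0,[],[]),(0,[],[]),(0,[],[]),(0,[],[]),(27,[10947,10962,11086,11088,11090,11092,11094],[7599,11054]),(0,[],[]),(0,[],[]),(0,[],[]),(0,[],[]),(0,[],[]),(0,[],[]),(0,[],[]),(0,[],[]),(0,[],[]),(0,[],[]),(0,[],[]),(0,[],[]),(0,[],[]),(0,[],[]),(0,[],[]),(29,[10947,10945,11098,11100,11102,11104,11106,11108,11110,11112,11114,11116,11118,11120,11122,11124,11126],[1574,10908]),(21,[5822,4756],[11024]),(23,[10908,11129],[11024,11131,4758,5643,5306,6848,6099]),(24,[1576,1578,3104,4072,5075,5073,5071,9116],[10908]),(8,[9539],[2943,9539]),(14,[2124,8433,8431],[9508,9549]),(18,[9539],[9508,9639]),(19,[9539],[2124,8781]),(20,[7856,9608],[2893,7856,9608]),(22,[2999,2327,9507,9505],[2327,9507]),(1,[11147],[]),(1,[11149,9505],[]),(1,[11149,9506],[]),(6,[2923,9434],[8508]),(11,[9560],[9552,9632]),(12,[9560],[2941,9560]),(20,[9552,9612],[2941,9552,9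612]),(7,[8755,8348],[9354]),(19,[8406],[8058,9526]),(7,[2927,9581],[8320]),(26,[2745,3061,2144,8238,8240],[2198,1550,2077,9628,9857]),(16,[8888,8094,9386],[]),(19,[2204],[11171,9388]),(24,[3026,2723,5244,5221,8648,9343,9341,9339],[11171]),(9,[11172],[8877,11172]),(6,[8379,9522],[8404]),(25,[2357,6891,8222,9453],[3001,2999,2327,2938,1488,8217]),(8,[9438],[3005,9438]),(11,[2316,9581],[8115]),(14,[2318,2960,5470,8288],[9581,9579]),(1,[11187],[]),(1,[11189,9578],[]),(1,[11189,9577],[]),(8,[11153],[4107,11153]),(19,[11153],[6823,8473]),(14,[8648,9392],[5821,8648,9392]),(12,[6858,9492],[9434]),(14,[2372,2374,9323,8639,8637],[]),(9,[5819,9396],[9396]),(26,[4980,8935,7819,7612],[3111,4147,5075,9008,7711,9050]),(14,[6223],[5708,8060,9344,9461]),(19,[8287],[8060,9453]),(25,[7910,8725,2196,2918,2069,8651,9343],[5248,8314,9332]),(7,[11130,11026],[5713,11130]),(1,[11214],[]),(1,[11217,11028],[]),(1,[11024,11218],[]),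(1,[11221],[]),(1,[11223,11030],[]),(1,[1574,11224],[]),(1,[11227],[]),(1,[11229,10906],[]),(1,[1572,11230],[]),(1,[11229,11019],[]),(1,[7598,11234],[]),(1,[11229,11051],[]),(1,[10916,11238],[]),(1,[11233],[]),(1,[11243,10720],[]),(1,[1570,11244],[]),(1,[11243,10931],[]),(1,[10724,11248],[]),(1,[11237],[]),(1,[11253,11017],[]),(1,[11240],[]),(1,[11257,11049],[]),(1,[11257,11012],[]),(1,[11257,11020],[]),(1,[10749,11262],[]),(1,[11257,10916],[]),(1,[11247],[]),(1,[11269,10826],[]),(1,[10802,11270],[]),(1,[11251],[]),(1,[11275,10746],[]),(1,[11275,10932],[]),(1,[11265],[]),(1,[11281,11022],[]),(1,[11273],[]),(1,[11285,10722],[]),(25,[5234,4901,2356,8500],[5236,2282,2312,6079,8222,9453]),(19,[9494],[6867,8460]),(24,[7023,7018,6101,6099,11133,11128],[5487,9160,8701]),(18,[6326,7595,11043],[]),(15,[],[5064,9210,7685]),(24,[6813,4814,5935,6630,10908,11129,11127],[5975,5973,8643]),(1,[11298],[]),(1,[11301,11125]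,[]),(26,[5960,5962,7597,7594,5933,2383,2381,2228,5496,11295],[]),(19,[11043],[7597,11043]),(21,[5963],[11255,11283]),(6,[8434,8452],[9492]),(11,[],[6076,8222,9344]),(11,[8708],[8676,9383]),(11,[6220,11208],[7777]),(27,[7448,7507,7286,7647,7626,7741],[7432,11206,7794]),(21,[7171,9212],[7631]),(15,[7180],[7188,11321,6157]),(1,[11322],[]),(1,[11325,8965],[]),(1,[5959,11326],[]),(1,[11325,7183,11324],[]),(1,[11325,7181],[]),(1,[11329],[]),(1,[11335,8963,11334],[]),(1,[11335,8967,11334],[]),(1,[5961,11338],[]),(1,[11335,7937,11334],[]),(1,[11335,7935],[]),(1,[11335,9236],[]),(1,[11304,11346],[]),(1,[11340],[]),(1,[11351,5961],[]),(1,[11351,5962],[]),(1,[11351,11308],[]),(1,[11304,11356],[]),(1,[11348],[]),(1,[11361,11294],[]),(1,[11361,11307,11360],[]),(1,[11361,11041],[]),(1,[11361,11042],[]),(1,[3411,11368],[]),(1,[11361,11304],[]),(1,[11359,11360],[]),(1,[11375,10749],[]),(1,[11367,11376],[]),(1,[11371],[]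),(1,[11381,7594],[]),(1,[11381,7597,11380],[]),(1,[11381,7598],[]),(1,[3413,11386],[]),(1,[11381,11054],[]),(1,[11381,11355],[]),(1,[11378],[]),(1,[11395,11367],[]),(1,[11388],[]),(1,[11399,3413],[]),(1,[11399,3414],[]),(1,[10946,11402],[]),(1,[11404],[]),(1,[11407,10962],[]),(1,[11407,10945],[]),(1,[3417,11410],[]),(1,[11407,10946],[]),(1,[11413],[]),(1,[11417,10943],[]),(1,[4469,11418],[]),(1,[11421],[]),(1,[11423,10941],[]),(1,[4217,11424],[]),(1,[11427],[]),(1,[11429,10939],[]),(1,[2430,11430],[]),(1,[11433],[]),(1,[11435,10937],[]),(1,[2428,11436],[]),(1,[11439],[]),(1,[11441,10935],[]),(1,[2426,11442],[]),(1,[11445],[]),(1,[11447,10664],[]),(1,[11447,10663],[]),(1,[11447,10774],[]),(26,[8188,11293,10909,1575,11415,7000,6058],[7504,8263,8261]),(7,[],[7408,9156,11314]),(25,[7438,7440,7421,6282,522,6635,7432,11206,7793,8999],[]),(8,[8783,9608],[9608]),(12,[8770],[9608,9649]),(11,[],[7880,5000,11363,11397]),(1,[11465],[]),(1,[11467,11259,11466],[]),(1,[11467,11260],[]),(1,[7881,11470],[]),(1,[11467,11277],[]),(1,[7878,11474],[]),(1,[11467,11396],[]),(1,[11467,11266],[]),(1,[11467,11052],[]),(1,[11473],[]),(1,[11485,11014],[]),(1,[11477],[]),(1,[11489,10902],[]),(1,[11489,11287],[]),(1,[7876,11492],[]),(1,[11489,11278],[]),(1,[11495],[])]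
theorem ok22 : data.stepsOK st22 5500 = true := by decide +kernel
def st23 : List Step := [(1,[11499,10802],[]),(1,[11499,10646],[]),(1,[7874,11502],[]),(1,[11505],[]),(1,[11507,10637],[]),(1,[11507,10705],[]),(1,[11507,10659],[]),(14,[7879,11490],[7880,7716,7718]),(21,[],[11469,11480,11415]),(27,[11482],[11478,11372,11353,11393,11385,11401,1573,10922]),(8,[9526],[8805,9526]),(12,[8748,9330],[9522]),(26,[],[8067,2265,2148,41,1548,1550,9628,9687,9685,9683,9681]),(1,[11525],[]),(1,[11527,9679],[]),(1,[9573,11528],[]),(1,[11527,9680],[]),(1,[11531],[]),(1,[11535,9677],[]),(11,[8242],[11168,9855]),(6,[8311,9330],[8324]),(24,[9287,8280,8282,8284,11210,9451,9449,9447],[8916]),(21,[11174],[8849,8317,9564]),(1,[11545],[]),(1,[11547,9566],[]),(1,[9389,11548],[]),(1,[11547,9565],[]),(1,[11551],[]),(1,[11555,9568],[]),(25,[9338,9340,9342,8650,1533,8314,9332],[11174,9388,11556]),(12,[9337],[8765,9337]),(12,[9401],[8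807,9401]),(9,[8430,11462,9647],[]),(16,[],[8430,9622,9549]),(6,[9622,9618],[11462]),(20,[8432,2965,8433,11462],[11462]),(21,[],[8453,8435,9408]),(21,[],[9085,8791,9442]),(11,[8634,11202,2371],[]),(15,[9391,11556],[9343]),(21,[],[11177,9390,8893]),(21,[],[9397,8751,4700]),(21,[],[9435,2922,2152]),(21,[9607],[9618,11568]),(8,[9563,11159,9562],[]),(11,[9536,11140,9637],[]),(6,[9625,9612],[9612]),(9,[9627,9612],[9612]),(15,[9625,9632],[9632]),(21,[],[9557,8767,7858]),(21,[],[9609,8766,1552,9802]),(1,[11601],[]),(1,[11603,9832],[]),(1,[9700,11604],[]),(1,[11603,9804],[]),(1,[9648,11608],[]),(1,[11603,9803],[]),(1,[11607],[]),(1,[11615,9834],[]),(1,[9630,11616],[]),(1,[11611],[]),(1,[11621,9968],[]),(1,[11621,9806],[]),(1,[11586,11624],[]),(1,[11619],[]),(1,[11629,9836],[]),(1,[9856,11630],[]),(1,[11627],[]),(1,[11635,9808],[]),(1,[11632],[]),(1,[11639,11169],[]),(1,[11639,9856],[]),(1,[11639,9855],[]),(1,[983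9,11644],[]),(1,[11647],[]),(1,[11649,11539],[]),(1,[11649,9853],[]),(1,[9841,11652],[]),(1,[11655],[]),(1,[11657,9851],[]),(22,[11461,9649,11622],[9649,11622]),(21,[],[9619,9623,8474]),(7,[9778,9771],[9687]),(8,[9671],[9776,9748]),(9,[11643],[9776,9744]),(16,[9778,9725],[11643]),(27,[9629,2077,1552,9672,9788,9790],[9801,9952,10387]),(18,[11622],[11571,11622]),(21,[],[11463,9622,9510]),(11,[9733,9939],[9771]),(12,[9729,9932],[9764]),(15,[9717],[9729,9897]),(19,[9901],[9905,10039]),(19,[9916],[9912,10052]),(11,[11681,9934],[9766]),(16,[9923],[9928,10059]),(12,[9796,10076,10048],[]),(21,[],[11693,10050,10082]),(21,[],[10076,9914,9967]),(21,[],[9948,9742,9650]),(21,[],[11668,9746,9688]),(24,[9843,11658],[9844,11699,9800,9629,9551,9549,9640]),(7,[10051],[10040,10163]),(11,[10147],[9908,10027]),(23,[9907,10043,10244,10246,10248,10250,10252,10254],[10156]),(18,[10052],[10032,10168]),(16,[9918],[11686,10054]),(7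,[10059],[10060,10175]),(11,[10070],[10060,10184]),(24,[9941,1555,11613,9649,9647,9645],[10387,11673,9792]),(9,[10164],[10148,10257]),(12,[10160],[10148,10197]),(6,[10163,11722],[10158]),(7,[10054],[11710,10170]),(21,[],[10149,10034,1560,10354]),(1,[11729],[]),(1,[11731,10388],[]),(1,[10256,11732],[]),(1,[11731,10356],[]),(1,[10196,11736],[]),(1,[11735],[]),(1,[11741,10390],[]),(1,[11739],[]),(1,[11745,10358],[]),(8,[10229],[10328,10306]),(9,[10403],[10328,10302]),(16,[10330,10281],[10403]),(21,[],[11723,10162,10212]),(21,[],[11721,10166,10211]),(12,[10285,10464],[10322]),(15,[10273],[10285,10443]),(12,[10348,10582,10568],[]),(21,[],[11763,10570,10586]),(21,[],[10474,10300,10198]),(7,[10571],[10560,10643]),(21,[],[11750,10304,10232]),(11,[10635],[10450,10551]),(12,[10640],[11509,11512]),(21,[],[11775,10642,10674]),(24,[11777,11513,7874,7876,7878,11478,3409,4466,4224,2431],[]),(1,[11779],[]),(1,[11781,1069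1],[]),(1,[2431,11782],[]),(1,[11781,10676],[]),(1,[2428,11786],[]),(1,[11781,11777],[]),(1,[11781,10675],[]),(1,[11785],[]),(1,[11795,10875],[]),(1,[4224,11796],[]),(1,[11789],[]),(1,[11801,10878],[]),(1,[5677,11802],[]),(1,[11799],[]),(1,[11807,10649],[]),(1,[11807,10650],[]),(1,[4466,11810],[]),(1,[11805],[]),(1,[11815,10765],[]),(1,[4719,11816],[]),(1,[11813],[]),(1,[11821,10652],[]),(1,[4230,11822],[]),(1,[11819],[]),(1,[11827,10763],[]),(1,[11825],[]),(1,[11831,10654],[]),(1,[4467,11832],[]),(1,[11835],[]),(1,[11837,10656],[]),(1,[11809,11838],[]),(1,[11841],[]),(1,[11843,11775],[]),(1,[11843,11513],[]),(1,[10635,11846],[]),(1,[11843,11791],[]),(1,[10632,11850],[]),(1,[11848],[]),(1,[11855,10450],[]),(1,[7872,11856],[]),(1,[11855,10449],[]),(1,[11511,11860],[]),(1,[11855,10635],[]),(1,[11855,10673],[]),(1,[7875,11866],[]),(1,[11852],[]),(1,[11871,10631],[]),(1,[11871,10632],[]),(1,[11859],[]),(1,[11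877,10452],[]),(1,[7870,11878],[]),(1,[11877,10551],[]),(1,[11862],[]),(1,[11885,11511],[]),(1,[11885,10703],[]),(1,[10562,11888],[]),(1,[11869],[]),(1,[11893,10671],[]),(1,[7877,11894],[]),(1,[11881],[]),(1,[11899,10464],[]),(1,[11899,10283],[]),(1,[11899,10284],[]),(1,[7868,11904],[]),(1,[11899,10463],[]),(1,[11891],[]),(1,[11911,10701],[]),(1,[10693,11912],[]),(1,[11897],[]),(1,[11917,10669],[]),(1,[11497,11918],[]),(1,[11907],[]),(1,[11923,10322],[]),(1,[11923,10263],[]),(1,[11923,10297],[]),(1,[11923,10317],[]),(1,[11923,10273],[]),(1,[11915],[]),(1,[11935,10699],[]),(1,[10695,11936],[]),(1,[11920],[]),(1,[11941,10977],[]),(1,[11941,11519],[]),(1,[11941,10961],[]),(1,[11941,10923],[]),(1,[11941,11497],[]),(1,[11939],[]),(1,[11953,10697],[]),(23,[11955,10695,10693,10562,11886,11864,11809,4467,11345,11337],[]),(1,[11957],[]),(1,[11959,10695],[]),(21,[10759,1569,10559,11509],[]),(1,[11963],[]),(1,[11965,10784],[]),(1,[11886,11966],[]),(1,[11965,10760],[]),(1,[11865,11970],[]),(1,[11965,10759],[]),(1,[11969],[]),(1,[11977,10786],[]),(1,[1569,11978],[]),(1,[11973],[]),(1,[11983,10880],[]),(1,[11808,11984],[]),(1,[11983,10948],[]),(1,[11983,11829],[]),(1,[11981],[]),(1,[11993,10788],[]),(1,[11500,11994],[]),(1,[11987],[])]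
theorem ok23 : data.stepsOK st23 5750 = true := by decide +kernel
def st24 : List Step := [(1,[11999,10882],[]),(1,[7537,12000],[]),(1,[11997],[]),(1,[12005,10790],[]),(1,[7877,12006],[]),(1,[12003],[]),(1,[12011,10884],[]),(1,[12009],[]),(1,[12015,10792],[]),(1,[7879,12016],[]),(1,[12019],[]),(1,[12021,10794],[]),(1,[11517,12022],[]),(1,[12025],[]),(1,[12027,11072],[]),(1,[7001,12028],[]),(1,[12027,10796],[]),(1,[11409,12032],[]),(1,[12031],[]),(1,[12037,11074],[]),(1,[12034],[]),(1,[12041,10964],[]),(1,[12041,11409],[]),(1,[12041,11086],[]),(11,[11129],[10910,11007]),(19,[11989,11809,5206],[]),(11,[],[12043,11451,2425]),(14,[],[12043,12044,7000,6058,6060]),(14,[10974,11943,11944,11085,11083],[]),(11,[],[11943,10667,10978]),(21,[],[11025,11487,4999,5717]),(1,[12060],[]),(1,[12063,11131],[]),(24,[11033,11400,11390,11056],[11945,11948,1571,11975,11864,11809]),(1,[12066],[]),(1,[12069,11057],[]),(1,[4466,1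2070],[]),(1,[12069,11058],[]),(1,[5207,12074],[]),(1,[12073],[]),(1,[12079,11097],[]),(1,[4230,12080],[]),(1,[12079,11391],[]),(1,[12077],[]),(1,[12087,11060],[]),(1,[12083],[]),(1,[12091,11095],[]),(1,[3409,12092],[]),(1,[12095],[]),(1,[12097,11093],[]),(1,[11364,12098],[]),(1,[12101],[]),(1,[12103,11091],[]),(1,[11478,12104],[]),(1,[12107],[]),(1,[12109,11089],[]),(1,[7878,12110],[]),(1,[12113],[]),(1,[12115,12047],[]),(27,[11033,1573,10660,12044,3416,3937,4475,3377,4514],[]),(22,[],[11068,11070,12119,3975,12118,11071]),(1,[12121],[]),(1,[12123,11070],[]),(26,[11078,11080,11082,11084,11033,1574,10908,11135,8714,9010],[]),(11,[],[11084,12119,8158]),(15,[],[12128,8968,6946]),(16,[12130,6058],[11083]),(15,[11487,5000],[6631]),(16,[],[5496,12134,7497]),(15,[],[2231,12136,7272]),(16,[12138,7914],[2232]),(7,[12141,7916],[2234]),(15,[12143,8899],[5825]),(16,[],[2372,12144,2165]),(21,[5696,7465,12137],[]),(24,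[5735],[5676,5829,11450,12117,7877,11500,1570,11949,10667]),(1,[12151],[]),(1,[12153,10978],[]),(1,[4714,12154],[]),(1,[12153,11449],[]),(1,[12153,10666],[]),(1,[12157],[]),(1,[12163,12059],[]),(1,[12163,10980],[]),(8,[5704,12149,7270],[]),(12,[3234],[12169,7272]),(9,[6223],[12170,7914]),(20,[5708],[12170,7635,12171,5708]),(25,[3382],[4514,3975,12118,11483,11478,3410,11392,11343,11960]),(16,[12064,5976],[7093]),(15,[11345,11960],[4466]),(7,[],[7000,12131,11084]),(16,[12182,11945],[12045]),(25,[3966,6929,6598,4541,366,7176,7188,12012,10886],[4135,7196]),(1,[12186],[]),(1,[12189,10888],[]),(1,[7512,12190],[]),(1,[12189,10887],[]),(1,[12193],[]),(1,[12197,10890],[]),(1,[7511,12198],[]),(1,[12201],[]),(1,[12203,10892],[]),(1,[7199,12204],[]),(1,[12207],[]),(1,[12209,10894],[]),(25,[12118,11033,11400,3411,11372,11343,11960],[4516,3917,4216]),(12,[6946],[7522,12210]),(7,[12181],[7536,11321]),(9,[11808,11844],[4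513,11808]),(1,[12218],[]),(1,[12221,11769],[]),(1,[11773,12222],[]),(1,[12225],[]),(1,[12227,10569],[]),(1,[11882,12228],[]),(1,[12227,10570],[]),(1,[12231],[]),(1,[12235,10455],[]),(1,[7870,12236],[]),(1,[12239],[]),(1,[12241,10475],[]),(1,[11901,12242],[]),(1,[12241,10440],[]),(1,[11903,12246],[]),(1,[12241,10299],[]),(1,[7868,12250],[]),(1,[12241,10458],[]),(1,[11909,12254],[]),(1,[12244],[]),(1,[12259,11758],[]),(1,[10353,12260],[]),(1,[12249],[]),(1,[12265,11761],[]),(1,[1562,12266],[]),(1,[12253],[]),(1,[12271,10302],[]),(1,[11929,12272],[]),(1,[12271,10306],[]),(1,[11931,12276],[]),(1,[12256],[]),(1,[12281,11909],[]),(1,[12263],[]),(1,[12285,11925],[]),(1,[12269],[]),(1,[12289,11933],[]),(1,[12275],[]),(1,[12293,11751],[]),(1,[12293,10304],[]),(1,[12278],[]),(1,[12299,10315],[]),(1,[12299,11931],[]),(26,[5636,7499,7496,11383,12085,7185,7186],[5484,7702,9023]),(21,[5247,2386],[12175]),(14,[4712,471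4,12158,2425,2423],[]),(15,[],[12160,12184,11451]),(16,[],[4861,12306,8060]),(21,[5236,8236,12313],[]),(7,[],[4863,12312,9344]),(15,[12316,11313],[9075]),(16,[12316,9461],[8527]),(7,[],[8528,12319,6076]),(12,[5235,12315,5234],[]),(7,[],[5241,12306,5709]),(12,[5307,12149,2230],[]),(16,[12326,6223],[6848]),(20,[5241],[12329,5499,12328,5241]),(21,[],[5931,9001,11458]),(25,[7295,7508,7433,6634,2780,7103,7663,12126],[12334,7437]),(7,[12178,8484],[5978]),(9,[6058],[12214,10896]),(20,[7001,4233,7000,12214],[12214]),(7,[12132,12056],[6060]),(16,[12345,10974],[12055]),(6,[12323,12325,12322],[]),(8,[8460],[12349,8460]),(15,[],[6098,12331,6221]),(6,[12331,12172,12140],[]),(14,[6158,6160],[12217,10693,10561,10394]),(1,[12357],[]),(1,[12359,10396],[]),(26,[8138,9099,7717,7881,11482,11085,11083],[7113,7907,7905]),(15,[7633,12194],[7626]),(7,[12365],[7656,7655]),(21,[7867],[12287,10330]),(24,[9316,9263,9264,8861,8851,93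38,9571,11557,11580],[]),(8,[8918,12333,8919],[]),(9,[8916],[12373,8916]),(21,[8283,9315],[12373]),(15,[],[8285,12377,9263]),(19,[8334,12370,8279],[]),(9,[11291],[12351,11291]),(12,[8516,12375,8517],[]),(24,[11677,9648,9631,9801,9799,9797,11694,10084],[9699,9697]),(1,[12386],[]),(1,[12389,10085],[]),(1,[12389,10086],[]),(27,[11701,11642,9629,2077,9551,9549,9547,9545],[9817,9815]),(1,[12395],[]),(1,[12397,9813],[]),(1,[12397,9814],[]),(21,[],[10156,11709,11742]),(21,[],[10158,11725,11746]),(24,[11755,10196,10183,10353,10351,10349,11764,10588],[10243,10241]),(1,[12406],[]),(1,[12409,10589],[]),(15,[12297,10435],[10340]),(7,[10313],[12301,10308]),(12,[10435],[12294,10401]),(21,[],[12341,12132,12362]),(15,[12347,12165],[12052]),(0,[],[]),(0,[],[]),(0,[],[]),(0,[],[]),(0,[],[]),(25,[6631,5933,2437,3150,12422,12424,12426,12428,12430],[5822]),(0,[],[]),(0,[],[]),(0,[],[]),(26,[10908,11135,8714,9010,12126,11077,1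2434,12436,12438],[5822]),(0,[],[]),(0,[],[]),(0,[],[]),(24,[5791,4758,5391,4815,4813,4811,12446],[6146,7480]),(0,[],[]),(26,[6146,7480,7391,12450],[1577,1575,1573,11949,11944,11085]),(0,[],[]),(0,[],[]),(0,[],[]),(0,[],[]),(0,[],[]),(0,[],[]),(0,[],[]),(29,[5791,4758,5643,2995,3063,2321,2319,9581,12454,12456,12458,12460,12462,12464,12466],[7467,8138,8140,9136]),(0,[],[]),(24,[3073,3069,3070,2121,2186,9560,12470],[2186,8332]),(0,[],[]),(0,[],[]),(0,[],[]),(0,[],[]),(0,[],[]),(0,[],[]),(26,[2186,8332,12381,12474,12476,12478,12480,12482,12484],[3071]),(0,[],[]),(0,[],[]),(0,[],[]),(0,[],[]),(0,[],[]),(0,[],[])]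
theorem ok24 : data.stepsOK st24 6000 = true := by decide +kernel
def st25 : List Step := [(17,[2945,8781,12496,12498],[9539]),(0,[],[]),(0,[],[]),(0,[],[]),(25,[2123,2199,2197,8326,12502,12504,12506],[3051,8331,8329]),(0,[],[]),(0,[],[]),(0,[],[]),(26,[2124,3053,1486,8382,12510,12512,12514],[3051,3048,2249]),(0,[],[]),(0,[],[]),(0,[],[]),(29,[2969,1835,1531,5646,7478,7273,7496,11383,12085,4466,11808,11772,12518,12520,12522],[9508,9549,9640,11703]),(0,[],[]),(18,[8781,12526],[8433]),(0,[],[]),(0,[],[]),(0,[],[]),(0,[],[]),(25,[2126,2348,2317,12530,12532,12534,12536],[2932,8388,9337]),(0,[],[]),(0,[],[]),(26,[2125,2969,1541,6854,9408,12540,12542],[2932,7933,7931]),(0,[],[]),(0,[],[]),(29,[3053,1485,1483,2872,5831,2231,5496,11363,11372,11960,10693,10561,10586,12411,10239,12546,12548],[8433,8431]),(0,[],[]),(0,[],[]),(26,[2128,2191,2294,5654,4936,12552,12554],[2931,8320,8556]),(0,[],[]),(0,[],[]),(0,[],[]),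(0,[],[]),(0,[],[]),(0,[],[]),(0,[],[]),(0,[],[]),(0,[],[]),(0,[],[]),(0,[],[]),(0,[],[]),(0,[],[]),(29,[2348,2317,2315,12558,12560,12562,12564,12566,12568,12570,12572,12574,12576,12578,12580,12582],[7856,7909,8770]),(0,[],[]),(0,[],[]),(0,[],[]),(0,[],[]),(0,[],[]),(0,[],[]),(0,[],[]),(0,[],[]),(0,[],[]),(0,[],[]),(0,[],[]),(29,[2986,7099,8116,12586,12588,12590,12592,12594,12596,12598,12600,12602,12604,12606],[2975,2976,3302,3711,7456]),(0,[],[]),(0,[],[]),(0,[],[]),(0,[],[]),(0,[],[]),(0,[],[]),(0,[],[]),(0,[],[]),(0,[],[]),(0,[],[]),(29,[2136,1579,6146,12442,12610,12612,12614,12616,12618,12620,12622,12624,12626,12628],[3282,3377,3382,3613,7536]),(0,[],[]),(0,[],[]),(0,[],[]),(0,[],[]),(0,[],[]),(0,[],[]),(0,[],[]),(0,[],[]),(0,[],[]),(0,[],[]),(29,[2884,1480,1482,8264,12632,12634,12636,12638,12640,12642,12644,12646,12648,12650],[3809,3803,6316,5937,5126]),(0,[],[]),(14,[2144,8238,12654],[2338,5927]),(0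,[],[]),(20,[8238,12658],[4105,8238,12658]),(0,[],[]),(0,[],[]),(26,[2145,2916,2319,9581,12454,12662,12664],[2146,2264,2266]),(0,[],[]),(0,[],[]),(0,[],[]),(0,[],[]),(0,[],[]),(0,[],[]),(0,[],[]),(0,[],[]),(0,[],[]),(0,[],[]),(0,[],[]),(0,[],[]),(0,[],[]),(29,[3000,2357,2749,8671,12668,12670,12672,12674,12676,12678,12680,12682,12684,12686,12688,12690,12692],[8238,12654]),(11,[2312,12558],[2264]),(0,[],[]),(0,[],[]),(0,[],[]),(25,[2312,5299,5235,8519,11543,9445,12700,12702],[5278,8605]),(0,[],[]),(0,[],[]),(0,[],[]),(0,[],[]),(0,[],[]),(0,[],[]),(0,[],[]),(0,[],[]),(0,[],[]),(0,[],[]),(0,[],[]),(0,[],[]),(0,[],[]),(29,[2147,2327,6823,8420,8422,12710,12712,12714,12716,12718,12720,12722,12724,12726,12728,12730],[2264,2266,8844]),(0,[],[]),(8,[8507,12734],[8508]),(0,[],[]),(9,[7472,12738],[8508]),(0,[],[]),(17,[2923,2937,5658,12742],[8507]),(0,[],[]),(0,[],[]),(21,[12748],[8508,11155]),(0,[],[]),(0,[],[]),(22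,[8507,12752,12754],[8438,8451]),(0,[],[]),(0,[],[]),(23,[7472,7581,5919,5917,12758,12760],[8508,11155,11201]),(0,[],[]),(0,[],[]),(0,[],[]),(0,[],[]),(24,[2152,2154,12764,12766,12768,12770],[7472,7336,7338]),(0,[],[]),(0,[],[]),(0,[],[]),(0,[],[]),(0,[],[]),(0,[],[]),(0,[],[]),(25,[8438,12510,12774,12776,12778,12780,12782,12784,12786],[12748]),(0,[],[]),(0,[],[]),(0,[],[]),(0,[],[]),(0,[],[]),(0,[],[]),(0,[],[]),(26,[7472,7336,12790,12792,12794,12796,12798,12800,12802],[12748]),(0,[],[]),(0,[],[]),(0,[],[]),(0,[],[]),(0,[],[]),(0,[],[]),(27,[2152,12806,12808,12810,12812,12814,12816],[8438,12510]),(0,[],[]),(0,[],[]),(0,[],[]),(0,[],[]),(28,[8438,8384,8497,12820,12822,12824,12826],[7472,7581,5919,5917,12758,12760,12762,11200]),(0,[],[]),(0,[],[]),(0,[],[]),(0,[],[]),(6,[12834,12836],[12832]),(0,[],[]),(7,[12834,12840],[9402]),(0,[],[]),(8,[12830,12844],[12832]),(0,[],[]),(9,[12806,12848],[12832]),(0,[],[]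),(11,[2154,12852],[9402]),(0,[],[]),(12,[2154,12856],[12832]),(0,[],[]),(0,[],[]),(14,[12806,12860,12862],[9402,9404]),(0,[],[]),(15,[12834,12866],[2154]),(0,[],[]),(16,[12834,12870],[12806]),(0,[],[]),(0,[],[]),(0,[],[]),(17,[12834,12874,12876,12878],[12830]),(0,[],[]),(18,[12830,12882],[9402]),(0,[],[]),(0,[],[]),(0,[],[]),(20,[9402,12886,12888,12890],[12832]),(21,[2153,12748],[12832,12839]),(1,[12895],[]),(1,[12897,12837],[]),(1,[12897,12838],[]),(0,[],[]),(0,[],[]),(0,[],[]),(22,[12830,12902,12904,12906],[2154]),(0,[],[]),(0,[],[]),(0,[],[]),(0,[],[]),(0,[],[]),(0,[],[]),(23,[12806,12910,12912,12914,12916,12918,12920],[12832,12901]),(0,[],[]),(0,[],[]),(0,[],[]),(0,[],[]),(0,[],[]),(24,[11585,11201,12924,12926,12928,12930,12932],[12806,12808]),(26,[12806,12808,12810],[2153,2151,1490,2016,1535,2408,9353]),(0,[],[]),(0,[],[]),(0,[],[]),(0,[],[]),(0,[],[]),(27,[11585,12829,12938,12940,12942,12944,12946]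,[2154,12764]),(0,[],[]),(0,[],[]),(0,[],[]),(0,[],[]),(0,[],[]),(28,[2154,2156,12950,12952,12954,12956,12958],[12806,12910,12912,12914,12916,12918,12920,12922]),(0,[],[]),(0,[],[]),(0,[],[]),(0,[],[]),(0,[],[]),(0,[],[]),(0,[],[]),(0,[],[]),(0,[],[]),(0,[],[]),(0,[],[]),(0,[],[]),(0,[],[]),(0,[],[]),(29,[11585,11201,12763,12962,12964,12966,12968,12970,12972,12974,12976,12978,12980,12982,12984,12986,12988],[9402,9404]),(0,[],[]),(6,[12869,12992],[12856]),(0,[],[]),(7,[12869,12996],[12852])]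
theorem ok25 : data.stepsOK st25 6250 = true := by decide +kernel

end

end Loop2
end ON
end H93
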